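import Cfsg.Agent.Lib.PSubTwo.Restrict
import Cfsg.Agent.Lib.Brauer43.Main
import Cfsg.Agent.Lib.Schur.SylowCriterion
import Cfsg.Agent.Lib.Transfer.CentralTransfer
import Cfsg.Agent.Lib.Classical.SL2Sylow

/-!
# A faithful character of degree `p - 2`
-/

set_option autoImplicit false
set_option linter.unusedSectionVars false
set_option linter.unusedVariables false
set_option linter.style.haveILetI false

namespace CfsgLib.PSubTwo

open Cfsg Chars BlockOrth Finset
open scoped commutatorElement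

universe u

variable {G : Type u} [Group G] [Fintype G] {p : ℕ} [Fact p.Prime]
  {P : Sylow p G} {ζ : IrrCharacter G} {x : G} {e : AddChar (ZMod p) ℂ}

/-- With an inverter of `P` in the normal subgroup `K ⊇ P`, the centre supplements `K`. -/
theorem Shape.sup_center (H : Shape P ζ x e) (S : Setup P ζ) (K : Subgroup G) [K.Normal]
    (hPK : (P : Subgroup G) ≤ K) {n : G} (hn : n ∈ K) (hinv : n * x * n⁻¹ = x⁻¹) :
    K ⊔ Subgroup.center G = ⊤ := by
  rw [eq_top_iff]
  intro g _
  have hg : g ∈ Subgroup.normalizer ((P : Subgroup G) : Set G) ⊔ K :=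
    P.normalizer_sup_eq_top' hPK ▸ Subgroup.mem_top g
  obtain ⟨y, hy, k, hk, rfl⟩ := Subgroup.mem_sup_of_normal_right.1 hg
  have hC : ∀ w ∈ Subgroup.centralizer ((P : Subgroup G) : Set G), w ∈ K ⊔ Subgroup.center G :=
    fun w hw => by
      obtain ⟨i, c, hc, rfl⟩ := H.exists_eq_mul S hw
      exact mul_mem (Subgroup.mem_sup_left (hPK (pow_mem H.mem _))) (Subgroup.mem_sup_right hc)
  refine mul_mem ?_ (Subgroup.mem_sup_left hk)
  rcases H.norm y hy with h | h
  · exact hC y h
  · have h1 : n⁻¹ * y ∈ Subgroup.centralizer ((P : Subgroup G) : Set G) := by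
      rw [H.mem_centralizer_iff S]
      show n⁻¹ * y * x = x * (n⁻¹ * y)
      calc n⁻¹ * y * x = n⁻¹ * (y * x * y⁻¹) * y := by group
        _ = n⁻¹ * (n * x * n⁻¹) * y := by rw [h, hinv]
        _ = _ := by group
    rw [show y = n * (n⁻¹ * y) from (mul_inv_cancel_left n y).symm]
    exact mul_mem (Subgroup.mem_sup_left hn) (hC _ h1)

theorem Shape.inverts (H : Shape P ζ x e) (S : Setup P ζ) {n : G} (hn : n * x * n⁻¹ = x⁻¹) {z : G}
    (hz : z ∈ (P : Subgroup G)) : n * z * n⁻¹ = z⁻¹ := by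
  obtain ⟨i, rfl⟩ := H.exists_val S hz
  rw [← conj_pow, hn, inv_pow]

/-- The derived group supplements the centre. -/
theorem Setup.derived (S : Setup P ζ) :
    ∃ (Q : Sylow p (commutator G)) (η : IrrCharacter (commutator G)),
      Setup Q η ∧ Odd (Nat.card (Subgroup.center (commutator G))) ∧
        commutator G ⊔ Subgroup.center G = ⊤ ∧
        commutator (commutator G) = ⊤ := by
  classical
  haveI : Fintype (commutator G) := Fintype.ofFinite _
  obtain ⟨P₁, x, e, S₁, H⟩ := S.exists_data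
  obtain ⟨Q, η, S₂, hodd, -⟩ := S₁.descend H
  obtain ⟨Q₁, y, e', S₃, H₃⟩ := S₂.exists_data
  obtain ⟨n₀, -, hn₀⟩ := H₃.inv
  obtain ⟨R, hR⟩ := (IsPGroup.map Q₁.isPGroup' (commutator G).subtype).exists_le_sylow
  have hR' : (Q₁ : Subgroup (commutator G)).map (commutator G).subtype = (R : Subgroup G) := by
    refine Subgroup.eq_of_le_of_card_ge hR (le_of_eq ?_)
    rw [Sylow.card_eq_multiplicity R, ← P₁.card_eq_multiplicity, S₁.card_P,
      ← (Nat.card_congr ((Q₁ : Subgroup (commutator G)).equivMapOfInjective _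
        (commutator G).subtype_injective).toEquiv), S₃.card_P]
  obtain ⟨n, hn, hinv⟩ := inverter_transfer (K := commutator G) (P := P₁) (Q := R) n₀.2 (fun z hz => by
    rw [← hR'] at hz
    obtain ⟨w, hw, rfl⟩ := hz
    exact congrArg Subtype.val (H₃.inverts S₃ hn₀ hw))
  have hsup := H.sup_center S₁ (commutator G) (H.le_commutator S₁) hn (hinv x H.mem)
  refine ⟨Q, η, S₂, hodd, hsup, ?_⟩
  have hle : commutator G ≤ (commutator (commutator G)).map (commutator G).subtype := by
    conv_lhs => rw [commutator_def]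
    rw [Subgroup.commutator_le]
    intro a _ b _
    obtain ⟨h, hh, c, hc, rfl⟩ := Subgroup.mem_sup_of_normal_right.1 (hsup ▸ Subgroup.mem_top a)
    obtain ⟨k, hk, d, hd, rfl⟩ := Subgroup.mem_sup_of_normal_right.1 (hsup ▸ Subgroup.mem_top b)
    have hcc : ∀ g : G, g * c = c * g := fun g => Subgroup.mem_center_iff.1 hc g
    have hdd : ∀ g : G, g * d = d * g := fun g => Subgroup.mem_center_iff.1 hd g
    refine ⟨⁅(⟨h, hh⟩ : commutator G), ⟨k, hk⟩⁆, ?_, ?_⟩
    · exact (le_of_eq (commutator_def _).symm)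
        (Subgroup.commutator_mem_commutator (Subgroup.mem_top _) (Subgroup.mem_top _))
    · show h * k * h⁻¹ * k⁻¹ = h * c * (k * d) * (h * c)⁻¹ * (k * d)⁻¹
      have h1 : h * c * (k * d) * (h * c)⁻¹ = h * (k * d) * h⁻¹ := by
        rw [mul_inv_rev, mul_assoc h c, ← hcc (k * d)]; group
      rw [h1, mul_inv_rev]
      calc h * k * h⁻¹ * k⁻¹ = h * k * (d * h⁻¹ * d⁻¹) * k⁻¹ := by
            rw [← hdd h⁻¹]; group
        _ = h * (k * d) * h⁻¹ * (d⁻¹ * k⁻¹) := by group
  rw [eq_top_iff]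
  intro g _
  obtain ⟨w, hw, he⟩ := hle g.2
  rwa [Subtype.ext he] at hw

/-- A perfect group with a Sylow `r`-subgroup with cyclic central quotient has no central element
of order `r`. -/
theorem not_dvd_center {L : Type u} [Group L] [Finite L] (hperf : commutator L = ⊤) {r : ℕ}
    [Fact r.Prime] {Q : Type*} [Group Q] [Finite Q] (σ : L →* Q) (hker : σ.ker ≤ Subgroup.center L)
    (hcyc : ∀ R : Sylow r Q, IsCyclic (R : Subgroup Q)) :
    ¬ r ∣ Nat.card (Subgroup.center L) := by
  intro hd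
  obtain ⟨c, hc⟩ := exists_prime_orderOf_dvd_card' r hd
  obtain ⟨T, hT⟩ := (IsPGroup.of_card (n := 1) (show Nat.card (Subgroup.zpowers (c : L)) = r ^ 1 by
    rw [Nat.card_zpowers, Subgroup.orderOf_coe, hc, pow_one])).exists_le_sylow
  obtain ⟨R, hR⟩ := (IsPGroup.map T.isPGroup' σ).exists_le_sylow
  have hab : IsMulCommutative (T : Subgroup L) := ⟨⟨fun a b => Subtype.ext
    (Schur.commute_of_map_cyclic σ hker (hcyc R) (hR ⟨a, a.2, rfl⟩) (hR ⟨b, b.2, rfl⟩))⟩⟩
  have h := Transfer.inf_commutator_inf_center_eq_bot (T : Subgroup L) hab T.card_coprime_index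
  have hmem : (c : L) ∈ (T : Subgroup L) ⊓ commutator L ⊓ Subgroup.center L :=
    ⟨⟨hT (Subgroup.mem_zpowers _), hperf ▸ Subgroup.mem_top _⟩, c.2⟩
  rw [h, Subgroup.mem_bot, ← orderOf_eq_one_iff, Subgroup.orderOf_coe, hc] at hmem
  exact (Fact.out : r.Prime).ne_one hmem

/-- The perfect case. -/
theorem Setup.perfect_case (S : Setup P ζ) (hZ : Odd (Nat.card (Subgroup.center G)))
    (hperf : commutator G = ⊤) : Subgroup.center G = ⊥ ∧
      ∃ (a : ℕ) (F : Type) (_ : Field F) (_ : Fintype F),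
        p = 2 ^ a + 1 ∧ Fintype.card F = 2 ^ a ∧
          Nonempty (G ≃* Matrix.SpecialLinearGroup (Fin 2) F) := by
  classical
  have hp : p.Prime := Fact.out
  have h5 := S.five_lt
  obtain ⟨P₁, x, e, S₁, H⟩ := S.exists_data
  have hcard := H.card_eq S₁ hZ
  obtain ⟨n, hn⟩ : ∃ n, p = 2 * n + 3 := by
    obtain ⟨r, hr⟩ := hp.odd_of_ne_two (by omega)
    exact ⟨r - 1, by omega⟩
  have hz0 : 0 < Nat.card (Subgroup.center G) := Nat.card_pos
  have hsyl : Nat.card (Sylow p G) = 1 + n * p := by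
    rw [Sylow.card_eq_index_normalizer P₁]
    have h := Subgroup.card_mul_index (Subgroup.normalizer ((P₁ : Subgroup G) : Set G))
    rw [H.card_normalizer S₁, hcard, show p - 1 = 2 * (n + 1) by omega,
      show p - 2 = 2 * n + 1 by omega] at h
    refine Nat.eq_of_mul_eq_mul_left
      (Nat.mul_pos (Nat.mul_pos two_pos hp.pos) hz0) (h.trans ?_)
    rw [show 1 + n * p = (n + 1) * (2 * n + 1) by rw [hn]; ring]
    ring
  have hno : ¬ Brauer43.IsExceptional p n := fun h => by
    have := h.bound hp.one_lt.le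
    omega
  obtain ⟨hiso, hON, hOC⟩ := Brauer43.quotient hperf P₁ S₁.card_P n hsyl hno
  haveI : (Cfsg.pPrimeCore p G).Normal := Cfsg.pPrimeCore_normal p G
  have hO : Cfsg.pPrimeCore p G = Subgroup.center G := by
    refine le_antisymm (fun y hy => H.cent y (hOC hy) fun h =>
      Base.not_dvd_card_pPrimeCore p G (h.trans (Subgroup.orderOf_dvd_natCard _ hy))) ?_
    exact le_sSup ⟨inferInstance, (hp.coprime_iff_not_dvd.2 S.not_dvd_center).symm⟩
  have hq : Nat.card (G ⧸ Cfsg.pPrimeCore p G) = p * (p - 1) * (p - 2) := by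
    have h := Subgroup.card_eq_card_quotient_mul_card_subgroup (Cfsg.pPrimeCore p G)
    rw [hcard] at h
    refine (Nat.eq_of_mul_eq_mul_right hz0 ?_).symm
    rw [h, hO]
  rcases hiso with ⟨F, hF, hF', hc, hp3, ⟨i⟩⟩ | ⟨m, F, hF, hF', hc, hpm, hp3, ⟨i⟩⟩
  · exfalso
    have h := Classical.card_PSL_two_mul (F := F)
    rw [← Nat.card_congr i.toEquiv, hq, Classical.gcd_two_card_sub_one_of_odd (F := F) (by
        rw [Nat.card_eq_fintype_card, hc]; exact hp.odd_of_ne_two (by omega)),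
      Nat.card_eq_fintype_card (α := F), hc, show p ^ 2 - 1 = (p + 1) * (p - 1) by
        rw [← Nat.sq_sub_sq, one_pow]] at h
    have h2 : (p - 2) * 2 = p + 1 := by
      refine Nat.eq_of_mul_eq_mul_left (show 0 < p * (p - 1) from Nat.mul_pos (by omega) (by omega))
        ?_
      calc p * (p - 1) * ((p - 2) * 2) = 2 * (p * (p - 1) * (p - 2)) := by ring
        _ = p * ((p + 1) * (p - 1)) := h
        _ = _ := by ring
    omega
  have hm : Nat.card F = 2 ^ m := by rw [Nat.card_eq_fintype_card, hc]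
  obtain ⟨q, hq2⟩ := CharP.exists F
  haveI := hq2
  obtain ⟨k, hqp, hk⟩ := FiniteField.card F q
  have hq' : q = 2 := Nat.prime_eq_prime_of_dvd_pow hqp Nat.prime_two
    ((dvd_pow_self q k.pos.ne').trans (by rw [← hk, hc]))
  subst hq'
  have hZ1 : Subgroup.center G = ⊥ := by
    rw [← Subgroup.card_eq_one]
    by_contra hne
    obtain ⟨r, hr, hrd⟩ := Nat.exists_prime_and_dvd hne
    haveI := Fact.mk hr
    haveI : Fact (Nat.Prime 2) := ⟨Nat.prime_two⟩
    have hr2 : r ≠ 2 := fun h => by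
      subst h; exact (Nat.not_even_iff_odd.2 hZ) (even_iff_two_dvd.2 hrd)
    refine _root_.CfsgLib.PSubTwo.not_dvd_center hperf (i.toMonoidHom.comp (QuotientGroup.mk' (Cfsg.pPrimeCore p G)))
      (fun y hy => ?_) (fun R => Classical.sylow_odd_SL2_isCyclic 2 hr2 hr2 R) hrd
    rw [← hO]
    exact (QuotientGroup.eq_one_iff y).1 (i.map_eq_one_iff.1 hy)
  refine ⟨hZ1, m, F, hF, hF', hpm, hc, ⟨?_⟩⟩
  exact (QuotientGroup.quotientBot (G := G)).symm.trans
    ((QuotientGroup.quotientMulEquivOfEq (hO.trans hZ1).symm).trans i)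

/-- **The main theorem.** -/
theorem main (S : Setup P ζ) : ∃ (a : ℕ) (F : Type) (_ : Field F) (_ : Fintype F),
    p = 2 ^ a + 1 ∧ Fintype.card F = 2 ^ a ∧
      Nonempty (G ≃* Matrix.SpecialLinearGroup (Fin 2) F × Subgroup.center G) := by
  classical
  haveI : Fintype (commutator G) := Fintype.ofFinite _
  obtain ⟨Q, η, S₂, hodd, hsup, hperf⟩ := S.derived
  obtain ⟨hZ, a, F, hF, hF', hpa, hFc, ⟨i⟩⟩ := S₂.perfect_case hodd hperf
  refine ⟨a, F, hF, hF', hpa, hFc, ⟨?_⟩⟩
  let f : commutator G × Subgroup.center G →* G :=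
    { toFun := fun t => (t.1 : G) * (t.2 : G)
      map_one' := one_mul _
      map_mul' := fun s t => by
        show ((s.1 : G) * t.1) * ((s.2 : G) * t.2) = (s.1 : G) * s.2 * ((t.1 : G) * t.2)
        exact (show Commute (t.1 : G) (s.2 : G) from
          Subgroup.mem_center_iff.1 s.2.2 _).mul_mul_mul_comm _ _ }
  have hf : Function.Bijective f := by
    constructor
    · rw [← MonoidHom.ker_eq_bot_iff, eq_bot_iff]
      rintro ⟨h, z⟩ ht
      have h1 : (h : G) * z = 1 := ht
      have h2 : h ∈ Subgroup.center (commutator G) := Subgroup.mem_center_iff.2 fun w => Subtype.ext (by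
        show (w : G) * h = h * w
        rw [eq_inv_of_mul_eq_one_left h1]
        exact Subgroup.mem_center_iff.1 (inv_mem z.2) w)
      rw [hZ, Subgroup.mem_bot] at h2
      rw [h2, OneMemClass.coe_one, one_mul] at h1
      exact Subgroup.mem_bot.2 (Prod.ext h2 (Subtype.ext h1))
    · intro g
      obtain ⟨h, hh, c, hc, rfl⟩ := Subgroup.mem_sup_of_normal_right.1 (hsup ▸ Subgroup.mem_top g)
      exact ⟨(⟨h, hh⟩, ⟨c, hc⟩), rfl⟩
  exact (MulEquiv.ofBijective f hf).symm.trans (MulEquiv.prodCongr i (MulEquiv.refl _))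

end CfsgLib.PSubTwo
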