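import Cfsg.Agent.Lib.PSubTwo.Decomp

/-!
# The values on the elements of order prime to `p`
-/

set_option autoImplicit false
set_option linter.unusedSectionVars false
set_option linter.unusedVariables false
set_option linter.style.haveILetI false

namespace CfsgLib.PSubTwo

open Cfsg Chars BlockOrth Finset
open scoped ComplexConjugate

universe u

/-- A function whose square is its translate takes two values at periodic points. -/
theorem periodic_abs {α : Type*} (f : α → α) (r : α → ℝ) (hr : ∀ a, 0 ≤ r a) {c : ℝ} (hc : 0 < c)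
    (Q : α → Prop) (hQ : ∀ a, Q a → Q (f a)) (h : ∀ a, Q a → r a * r a = c * r (f a)) {a : α}
    (ha : Q a) {j : ℕ} (hj : 0 < j) (hper : f^[j] a = a) : r a = 0 ∨ r a = c := by
  have hit : ∀ i, Q (f^[i] a) ∧ (r a / c) ^ (2 ^ i) = r (f^[i] a) / c := by
    intro i
    induction i with
    | zero => simp [ha]
    | succ i ih =>
      refine ⟨by rw [Function.iterate_succ_apply']; exact hQ _ ih.1, ?_⟩
      rw [pow_succ 2 i, pow_mul, ih.2, Function.iterate_succ_apply', pow_two, div_mul_div_comm,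
        h _ ih.1]
      field_simp
  have h1 := (hit j).2
  rw [hper] at h1
  have hs : (0 : ℝ) ≤ r a / c := div_nonneg (hr a) hc.le
  rcases eq_or_ne (r a / c) 0 with h0 | h0
  · left; rwa [div_eq_zero_iff, or_iff_left hc.ne'] at h0
  · right
    have h2 : (r a / c) ^ (2 ^ j - 1) = 1 := by
      refine mul_right_cancel₀ h0 ?_
      rw [← pow_succ, Nat.sub_add_cancel Nat.one_le_two_pow, h1, one_mul]
    have h3 : r a / c = 1 := (pow_eq_one_iff_of_nonneg hs
      (by have := Nat.lt_two_pow_self (n := j); omega)).1 h2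
    rwa [div_eq_one_iff_eq hc.ne'] at h3

/-- A sum of `n ≥ 5` roots of unity of absolute value `n - 1` whose squares sum to nonzero. -/
theorem sum_sq_ne_zero {ι : Type*} [Fintype ι] {μ : ι → ℂ} (hμ : ∀ i, ‖μ i‖ = 1)
    (h5 : 5 ≤ Fintype.card ι) (hsum : ‖∑ i, μ i‖ = (Fintype.card ι : ℝ) - 1) :
    ∑ i, μ i * μ i ≠ 0 := by
  intro h2
  obtain ⟨n, hn⟩ : ∃ n : ℝ, n = (Fintype.card ι : ℝ) := ⟨_, rfl⟩
  have hn5 : 5 ≤ n := by rw [hn]; exact_mod_cast h5
  rw [← hn] at hsum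
  obtain ⟨w, hw⟩ : ∃ w, w = (∑ i, μ i) / ((n - 1 : ℝ) : ℂ) := ⟨_, rfl⟩
  have hn1 : ((n - 1 : ℝ) : ℂ) ≠ 0 := Complex.ofReal_ne_zero.2 (by linarith)
  have hwn : ‖w‖ = 1 := by
    rw [hw, norm_div, hsum, Complex.norm_real, Real.norm_eq_abs, abs_of_pos (by linarith)]
    exact div_self (by linarith)
  have hν : ∀ i, ‖μ i * conj w‖ = 1 := fun i => by
    rw [norm_mul, hμ, RCLike.norm_conj, hwn, one_mul]
  have h1 : ∑ i, μ i * conj w = ((n - 1 : ℝ) : ℂ) := by
    rw [← Finset.sum_mul, show ∑ i, μ i = ((n - 1 : ℝ) : ℂ) * w by rw [hw, mul_div_cancel₀ _ hn1],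
      mul_assoc, Complex.mul_conj, Complex.normSq_eq_norm_sq, hwn, one_pow, Complex.ofReal_one,
      mul_one]
  have h3 : ∑ i, μ i * conj w * (μ i * conj w) = 0 := by
    simp only [mul_mul_mul_comm, ← Finset.sum_mul, h2, zero_mul]
  have hre1 := congrArg Complex.re h1
  rw [Complex.re_sum, Complex.ofReal_re] at hre1
  have hre2 := congrArg Complex.re h3
  rw [Complex.re_sum, Complex.zero_re] at hre2
  have key : ∀ i, 1 - (μ i * conj w * (μ i * conj w)).re ≤ 4 * (1 - (μ i * conj w).re) := by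
    intro i
    have h4 : Complex.normSq (μ i * conj w) = 1 := by
      rw [Complex.normSq_eq_norm_sq, hν, one_pow]
    rw [Complex.normSq_apply] at h4
    rw [Complex.mul_re (μ i * conj w)]
    nlinarith [sq_nonneg ((μ i * conj w).re - 1), mul_self_nonneg (μ i * conj w).im]
  have h5' := Finset.sum_le_sum (s := univ) fun i _ => key i
  rw [Finset.sum_sub_distrib, ← Finset.mul_sum, Finset.sum_sub_distrib, hre1, hre2, Finset.sum_const,
    Finset.card_univ, nsmul_eq_mul, mul_one, ← hn] at h5'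
  linarith

variable {G : Type u} [Group G] [Fintype G] {p : ℕ} [Fact p.Prime]
  {P : Sylow p G} {ζ : IrrCharacter G} {x : G} {e : AddChar (ZMod p) ℂ} {K : ZMod p → ℕ}

/-- The three kinds of elements of order prime to `p`. -/
def RegType (ζ : IrrCharacter G) (g : G) : Prop :=
  g ∈ Subgroup.center G ∨
    (∃ s c : G, s * s = 1 ∧ s ∉ Subgroup.center G ∧ c ∈ Subgroup.center G ∧ g = s * c ∧
      (ζ : G → ℂ) s = -1) ∨
    (ζ : G → ℂ) g = 0

theorem Setup.odd_case (S : Setup P ζ) (E : Expo G p K)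
    (hfund : ∀ g, ¬ p ∣ orderOf g → (ζ : G → ℂ) g * (ζ : G → ℂ) g - (ζ : G → ℂ) (g * g) =
      ((p - 3 : ℕ) : ℂ) * (ζ : G → ℂ) (g ^ K 1))
    {g : G} (hg : ¬ p ∣ orderOf g) (hodd : Odd (orderOf g)) : RegType ζ g := by
  have h5 := S.five_lt
  have h := periodic_abs (fun a : G => a ^ 2) (fun a => ‖(ζ : G → ℂ) a‖) (fun a => norm_nonneg _)
    (c := ((p - 2 : ℕ) : ℝ)) (by exact_mod_cast (show 0 < p - 2 by omega))
    (fun a => ¬ p ∣ orderOf a ∧ Odd (orderOf a))
    (fun a ha => ⟨fun h => ha.1 (h.trans (orderOf_pow_dvd 2)),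
      ha.2.of_dvd_nat (orderOf_pow_dvd 2)⟩)
    (fun a ha => by
      have h := hfund a ha.1
      rw [E.odd_sq 1 a ha.1 ha.2] at h
      have h' : (ζ : G → ℂ) a * (ζ : G → ℂ) a = ((p - 2 : ℕ) : ℂ) * (ζ : G → ℂ) (a * a) := by
        rw [show p - 2 = (p - 3) + 1 by omega, Nat.cast_add, Nat.cast_one]
        linear_combination h
      rw [← norm_mul, h', norm_mul, Complex.norm_natCast, pow_two])
    (a := g) ⟨hg, hodd⟩ (j := Nat.totient (orderOf g)) (Nat.totient_pos.2 (orderOf_pos g)) (by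
      rw [pow_iterate]
      conv_rhs => rw [← pow_one g]
      exact pow_eq_pow_iff_modEq.2 (Nat.ModEq.pow_totient hodd.coprime_two_left))
  rcases h with h | h
  · exact Or.inr (Or.inr (norm_eq_zero.1 h))
  · exact Or.inl ((S.norm_eq_iff g).1 h)

theorem Setup.involution_value (S : Setup P ζ) (E : Expo G p K)
    (hfund : ∀ g, ¬ p ∣ orderOf g → (ζ : G → ℂ) g * (ζ : G → ℂ) g - (ζ : G → ℂ) (g * g) =
      ((p - 3 : ℕ) : ℂ) * (ζ : G → ℂ) (g ^ K 1))
    {s : G} (hs : s * s = 1) (hs1 : s ≠ 1) : (ζ : G → ℂ) s = -1 := by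
  have h5 := S.five_lt
  have ho : orderOf s = 2 ^ 1 := by
    rw [pow_one]; exact orderOf_eq_prime (by rw [pow_two, hs]) hs1
  have h := hfund s (fun h => by
    rw [ho, pow_one] at h; have := Nat.le_of_dvd two_pos h; omega)
  rw [E.two_fix 1 s 1 ho, hs, S.deg,
    show p - 2 = (p - 3) + 1 by omega, Nat.cast_add, Nat.cast_one] at h
  have h2 : ((ζ : G → ℂ) s + 1) * ((ζ : G → ℂ) s - (((p - 3 : ℕ) : ℂ) + 1)) = 0 := by
    linear_combination h
  rcases mul_eq_zero.1 h2 with h3 | h3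
  · exact eq_neg_of_add_eq_zero_left h3
  · exact absurd (S.faithful s (by
      rw [sub_eq_zero.1 h3, S.deg, show p - 2 = (p - 3) + 1 by omega]; push_cast; ring)) hs1

theorem Setup.not_order_four (S : Setup P ζ) (E : Expo G p K)
    (hfund : ∀ g, ¬ p ∣ orderOf g → (ζ : G → ℂ) g * (ζ : G → ℂ) g - (ζ : G → ℂ) (g * g) =
      ((p - 3 : ℕ) : ℂ) * (ζ : G → ℂ) (g ^ K 1))
    {u : G} (hu : u * u ≠ 1) (hu4 : u * u * (u * u) = 1) : False := by
  have h5 := S.five_lt
  have hu4' : u ^ 2 ^ 2 = 1 := by rw [← hu4]; norm_num [pow_succ, mul_assoc]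
  have ho : orderOf u = 2 ^ 2 := orderOf_eq_prime_pow (by rw [pow_one, pow_two]; exact hu) hu4'
  have h := hfund u (fun h => by
    rw [ho] at h; have := Nat.le_of_dvd (by norm_num) h; omega)
  rw [E.two_fix 1 u 2 ho, S.involution_value E hfund hu4 hu] at h
  -- Gaussian integer
  obtain ⟨n, ρ, hρ, hζ⟩ := ζ.2
  obtain ⟨b, μ, hμ, -, hb, -, h1, -⟩ := exists_eigenbasis_rep ρ u
  obtain ⟨A, B, hAB⟩ : ∃ A B : ℤ, (ζ : G → ℂ) u = (A : ℂ) + (B : ℂ) * Complex.I := by
    rw [← hζ, h1]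
    refine Finset.sum_induction _ (fun z : ℂ => ∃ A B : ℤ, z = (A : ℂ) + (B : ℂ) * Complex.I)
      (fun a b ⟨A, B, ha⟩ ⟨C, D, hb⟩ => ⟨A + C, B + D, by rw [ha, hb]; push_cast; ring⟩)
      ⟨0, 0, by simp⟩ fun i _ => ?_
    have h4 := hμ i
    rw [ho] at h4
    norm_num at h4
    have h5 : (μ i - 1) * ((μ i + 1) * ((μ i - Complex.I) * (μ i + Complex.I))) = 0 := by
      linear_combination h4 - (μ i * μ i - 1) * Complex.I_mul_I
    rcases mul_eq_zero.1 h5 with h6 | h6
    · exact ⟨1, 0, by rw [sub_eq_zero.1 h6]; simp⟩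
    rcases mul_eq_zero.1 h6 with h7 | h7
    · exact ⟨-1, 0, by rw [eq_neg_of_add_eq_zero_left h7]; simp⟩
    rcases mul_eq_zero.1 h7 with h8 | h8
    · exact ⟨0, 1, by rw [sub_eq_zero.1 h8]; simp⟩
    · exact ⟨0, -1, by rw [eq_neg_of_add_eq_zero_left h8]; simp⟩
  rw [hAB] at h
  have hre := congrArg Complex.re h
  have him := congrArg Complex.im h
  simp at hre him
  have hre' : A * A - B * B + 1 = ((p - 3 : ℕ) : ℤ) * A := by
    have : ((A * A - B * B + 1 : ℤ) : ℝ) = ((((p - 3 : ℕ) : ℤ) * A : ℤ) : ℝ) := by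
      push_cast; linarith
    exact_mod_cast this
  have him' : B * (2 * A - ((p - 3 : ℕ) : ℤ)) = 0 := by
    have : ((B * (2 * A - ((p - 3 : ℕ) : ℤ)) : ℤ) : ℝ) = ((0 : ℤ) : ℝ) := by
      push_cast; linarith
    exact_mod_cast this
  rcases mul_eq_zero.1 him' with hB | hA
  · subst hB
    have h9 : A * (((p - 3 : ℕ) : ℤ) - A) = 1 := by linarith
    rcases Int.eq_one_or_neg_one_of_mul_eq_one h9 with rfl | rfl <;> omega
  · have hq : ((p - 3 : ℕ) : ℤ) = 2 * A := by linarith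
    rw [hq] at hre'
    have h9 : A * A + B * B = 1 := by linarith
    have hA2 : 2 ≤ A := by omega
    nlinarith [mul_self_nonneg B, mul_le_mul hA2 hA2 (by norm_num) (by omega)]

theorem Setup.zero_square_case (S : Setup P ζ) (E : Expo G p K)
    (hfund : ∀ g, ¬ p ∣ orderOf g → (ζ : G → ℂ) g * (ζ : G → ℂ) g - (ζ : G → ℂ) (g * g) =
      ((p - 3 : ℕ) : ℂ) * (ζ : G → ℂ) (g ^ K 1))
    {g : G} (hg : ¬ p ∣ orderOf g) (h0 : (ζ : G → ℂ) (g * g) = 0) : (ζ : G → ℂ) g = 0 := by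
  have h5 := S.five_lt
  haveI : NeZero (Nat.card G) := ⟨Nat.card_pos.ne'⟩
  obtain ⟨σ, hσ⟩ := CharApps.exists_galois_pow (Nat.card G) (E.coprime 1 one_ne_zero)
  have hgal : ∀ a : G, σ ((ζ : G → ℂ) a) = (ζ : G → ℂ) (a ^ K 1) := fun a =>
    CharApps.galois_apply σ hσ (isCharacter_of_irr ζ.2) a pow_card_eq_one'
  have h := periodic_abs (fun a : G => a ^ K 1) (fun a => ‖(ζ : G → ℂ) a‖) (fun a => norm_nonneg _)
    (c := ((p - 3 : ℕ) : ℝ)) (by exact_mod_cast (show 0 < p - 3 by omega))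
    (fun a => ¬ p ∣ orderOf a ∧ (ζ : G → ℂ) (a * a) = 0)
    (fun a ha => ⟨fun h => ha.1 (h.trans (orderOf_pow_dvd _)), by
      rw [← (Commute.refl a).mul_pow, ← hgal, ha.2, map_zero]⟩)
    (fun a ha => by
      have h := hfund a ha.1
      rw [ha.2, sub_zero] at h
      rw [← norm_mul, h, norm_mul, Complex.norm_natCast])
    (a := g) ⟨hg, h0⟩ (j := Nat.totient (orderOf g)) (Nat.totient_pos.2 (orderOf_pos g)) (by
      rw [pow_iterate]
      conv_rhs => rw [← pow_one g]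
      exact pow_eq_pow_iff_modEq.2 (Nat.ModEq.pow_totient
        ((E.coprime 1 one_ne_zero).coprime_dvd_right (orderOf_dvd_natCard g))))
  rcases h with h | h
  · exact norm_eq_zero.1 h
  exfalso
  obtain ⟨n, ρ, hρ, hζ⟩ := ζ.2
  obtain ⟨b, μ, hμ, -, hb, -, h1, -⟩ := exists_eigenbasis_rep ρ g
  have hn : n = p - 2 := by
    have h2 := S.deg
    rw [← hζ, Representation.char_one, Module.finrank_pi, Fintype.card_fin] at h2
    exact_mod_cast h2
  have hcard : Fintype.card (Fin (Module.finrank ℂ (Fin n → ℂ))) = p - 2 := by simp [hn]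
  have hsq : ρ.character (g * g) = ∑ i, μ i * μ i := by
    refine trace_eq_sum_of_eigenbasis _ b _ fun i => ?_
    rw [map_mul, Module.End.mul_apply, hb, map_smul, hb, smul_smul]
  have hp6 : p ≠ 6 := fun h => absurd (h ▸ (Fact.out : p.Prime)) (by norm_num)
  refine sum_sq_ne_zero (μ := μ) (fun i => Complex.norm_eq_one_of_pow_eq_one (hμ i)
    (orderOf_pos g).ne') (by omega) ?_ (by rw [← hsq, hζ, h0])
  rw [← h1, hζ, hcard, h, Nat.cast_sub (by omega), Nat.cast_sub (by omega)]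
  push_cast; ring

/-- **The classification of the elements of order prime to `p`.** -/
theorem Setup.classify (S : Setup P ζ) (E : Expo G p K)
    (hZ : Odd (Nat.card (Subgroup.center G)))
    (hfund : ∀ g, ¬ p ∣ orderOf g → (ζ : G → ℂ) g * (ζ : G → ℂ) g - (ζ : G → ℂ) (g * g) =
      ((p - 3 : ℕ) : ℂ) * (ζ : G → ℂ) (g ^ K 1))
    (g : G) (hg : ¬ p ∣ orderOf g) : RegType ζ g := by
  induction hN : orderOf g using Nat.strong_induction_on generalizing g with
  | _ N ih =>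
  subst hN
  rcases Nat.even_or_odd (orderOf g) with hev | hodd
  swap
  · exact S.odd_case E hfund hg hodd
  have hlt : orderOf (g * g) < orderOf g := by
    rw [← pow_two, orderOf_pow_of_dvd _root_.two_ne_zero (even_iff_two_dvd.1 hev)]
    exact Nat.div_lt_self (orderOf_pos g) one_lt_two
  have hg2 : ¬ p ∣ orderOf (g * g) := fun h =>
    hg (h.trans (by rw [← pow_two]; exact orderOf_pow_dvd 2))
  rcases ih _ hlt (g * g) hg2 rfl with hc | ⟨s, c, hss, hsZ, hc, hgs, hζs⟩ | h0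
  · -- the square is central
    obtain ⟨r, hr⟩ := S.odd_orderOf_center hZ hc
    have hc1 : (g * g) ^ (2 * r + 1) = 1 := by rw [← hr, pow_orderOf_eq_one]
    have hs : g ^ (2 * r + 1) * g ^ (2 * r + 1) = 1 := by
      rw [← (Commute.refl g).mul_pow, hc1]
    have hgs : g = g ^ (2 * r + 1) * ((g * g) ^ r)⁻¹ := by
      rw [eq_mul_inv_iff_mul_eq, pow_succ', pow_mul, pow_two]
    have hcr : ((g * g) ^ r)⁻¹ ∈ Subgroup.center G := inv_mem (pow_mem hc r)
    have hsZ : g ^ (2 * r + 1) ∉ Subgroup.center G := by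
      intro hsZ
      have hgZ : g ∈ Subgroup.center G := hgs ▸ mul_mem hsZ hcr
      exact (Nat.not_even_iff_odd.2 (S.odd_orderOf_center hZ hgZ)) hev
    exact Or.inr (Or.inl ⟨_, _, hs, hsZ, hcr, hgs,
      S.involution_value E hfund hs fun h => hsZ (by rw [h]; exact one_mem _)⟩)
  · -- the square is of involution type
    exfalso
    obtain ⟨r, hr⟩ := S.odd_orderOf_center hZ hc
    have hc1 : c ^ (2 * r + 1) = 1 := by rw [← hr, pow_orderOf_eq_one]
    have hs1 : s ^ (2 * r + 1) = s := by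
      rw [pow_succ, pow_mul, pow_two, hss, one_pow, one_mul]
    have huu : g ^ (2 * r + 1) * g ^ (2 * r + 1) = s := by
      rw [← (Commute.refl g).mul_pow, hgs,
        (show Commute s c from Subgroup.mem_center_iff.1 hc s).mul_pow, hc1, hs1, mul_one]
    exact S.not_order_four E hfund (u := g ^ (2 * r + 1))
      (fun h => hsZ (by rw [← huu, h]; exact one_mem _)) (by rw [huu, hss])
  · exact Or.inr (Or.inr (S.zero_square_case E hfund hg h0))

end CfsgLib.PSubTwo
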