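import Cfsg.Agent.Lib.Blocks.DefectOneValues

/-!
# The columns of a block with a Sylow defect group of order `p` as signed sums of linear characters
-/

set_option autoImplicit false
set_option linter.unusedSectionVars false
set_option linter.style.haveILetI false

namespace CfsgLib.PSubTwo

open Cfsg Chars Blocks BlockOrth CfsgLib.Modular Finset
open scoped ComplexConjugate

universe u

variable {G : Type u} [Group G] [Fintype G] {M : Ideal AlgInt} [M.IsPrime] {p : ℕ} [Fact p.Prime]
  {P : Subgroup G} {B : Set (IrrCharacter G)}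
  [Fintype (Subgroup.centralizer (P : Set G))]
  {b : Set (IrrCharacter (Subgroup.centralizer (P : Set G)))}

/-- An irreducible character of an abelian group is a root of unity at each element. -/
theorem irr_pow_card {A : Type*} [Group A] [Finite A] (hA : ∀ a b : A, a * b = b * a)
    (l : IrrCharacter A) (x : A) : (l : A → ℂ) x ^ Nat.card A = 1 := by
  haveI := Fintype.ofFinite A
  have hpow : ∀ k : ℕ, (l : A → ℂ) (x ^ k) = (l : A → ℂ) x ^ k := by
    intro k
    induction k with
    | zero => rw [pow_zero, pow_zero, irr_one_of_comm hA]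
    | succ k ih => rw [pow_succ, pow_succ, irr_mul_of_comm hA, ih]
  rw [← hpow, pow_card_eq_one', irr_one_of_comm hA]

/-- An integral vector of the variance of `e` ones among `p` points is, after a shift, a signed
indicator. -/
theorem signed_indicator {ι : Type*} [Fintype ι] [DecidableEq ι] {p e : ℕ} {ε : ℤ}
    (hε : ε = 1 ∨ ε = -1) (hp : Fintype.card ι = p) (hp0 : p ≠ 0) (c : ι → ℤ)
    (hT : (p : ℤ) ∣ (∑ i, c i) - ε * e)
    (hV : (p : ℤ) * ∑ i, c i * c i - (∑ i, c i) * (∑ i, c i) = (e : ℤ) * (p - e)) :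
    ∃ (O : Finset ι) (s : ℤ), O.card = e ∧ ∀ i, c i = ε * (if i ∈ O then 1 else 0) + s := by
  obtain ⟨s, hs⟩ := hT
  obtain ⟨d, hd⟩ : ∃ d : ι → ℤ, ∀ i, d i = c i - s := ⟨fun i => c i - s, fun i => rfl⟩
  have hε2 : ε * ε = 1 := by rcases hε with h | h <;> simp [h]
  have hsum : ∑ i, d i = ε * e := by
    simp only [hd, Finset.sum_sub_distrib, Finset.sum_const, Finset.card_univ, hp, nsmul_eq_mul]
    linarith
  have hsq : ∑ i, d i * d i = e := by
    have h1 : ∑ i, d i * d i = ∑ i, c i * c i - 2 * s * ∑ i, c i + (p : ℤ) * (s * s) := by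
      simp only [hd]
      rw [Finset.mul_sum, ← Finset.sum_sub_distrib,
        show (p : ℤ) * (s * s) = ∑ _i : ι, s * s by simp [hp], ← Finset.sum_add_distrib]
      exact Finset.sum_congr rfl fun i _ => by ring
    have h2 : (p : ℤ) * ∑ i, d i * d i = (p : ℤ) * e := by
      rw [h1]
      have hT' : ∑ i, c i = ε * e + p * s := by linarith
      have h3 : (∑ i, c i) * ∑ i, c i = (ε * e + p * s) * (ε * e + p * s) := by rw [hT']
      have h4 : 2 * s * ∑ i, c i = 2 * s * (ε * e + p * s) := by rw [hT']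
      rw [mul_add, mul_sub, h4]
      linear_combination hV + h3 + (e : ℤ) * e * hε2
    exact mul_left_cancel₀ (by exact_mod_cast hp0) h2
  have hzero : ∀ i, d i = 0 ∨ d i = ε := by
    have h0 : ∑ i, d i * (d i - ε) = 0 := by
      simp only [mul_sub, Finset.sum_sub_distrib, ← Finset.sum_mul, hsum, hsq]
      linear_combination -(e : ℤ) * hε2
    have hnn : ∀ i ∈ (univ : Finset ι), 0 ≤ d i * (d i - ε) := fun i _ => by
      rcases hε with h | h <;> subst h
      · rcases le_or_gt (d i) 0 with h | h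
        · exact mul_nonneg_of_nonpos_of_nonpos h (by linarith)
        · exact mul_nonneg h.le (by omega)
      · rcases le_or_gt 0 (d i) with h | h
        · exact mul_nonneg h (by linarith)
        · exact mul_nonneg_of_nonpos_of_nonpos h.le (by omega)
    intro i
    rcases mul_eq_zero.1 ((Finset.sum_eq_zero_iff_of_nonneg hnn).1 h0 i (mem_univ i)) with h | h
    · exact Or.inl h
    · exact Or.inr (sub_eq_zero.1 h)
  have hε0 : ε ≠ 0 := by rcases hε with h | h <;> simp [h]
  refine ⟨univ.filter fun i => d i = ε, s, ?_, fun i => ?_⟩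
  · have h1 : ∑ i, d i = ∑ i, if d i = ε then ε else 0 := Finset.sum_congr rfl fun i _ => by
      rcases hzero i with h | h
      · rw [if_neg (by rw [h]; exact hε0.symm), h]
      · rw [if_pos h, h]
    rw [← Finset.sum_filter, Finset.sum_const, nsmul_eq_mul, hsum, mul_comm] at h1
    exact_mod_cast (mul_right_cancel₀ hε0 h1).symm
  · have := hd i
    rcases hzero i with h | h
    · rw [if_neg (by simp [h, hε0.symm])]; linarith
    · rw [if_pos (by simp [h])]; linarith

open scoped Classical in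
/-- A column is a signed sum of `1` or `e` linear characters of `P`. -/
theorem column_shape (hM : IsPModular p M) (hcard : Nat.card P = p)
    (hsq : ¬ p ^ 2 ∣ Nat.card G) (hpair : IsBrauerPairOf p M B P b) {χ : IrrCharacter G}
    (hχ : χ ∈ B) :
    ∃ (ε : ℤ) (O : Finset (IrrCharacter P)), (ε = 1 ∨ ε = -1) ∧
      (O.card = 1 ∨ O.card = (Subgroup.centralizer (P : Set G)).relIndex (stabPair ⟨P, b⟩)) ∧
      ∀ u : P, u ≠ 1 → xiFun b (χ : G → ℂ) u = (ε : ℂ) * ∑ l ∈ O, (l : P → ℂ) u := by
  have hp : p.Prime := Fact.out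
  have hpM := hM.2.2
  haveI := irrFintype G
  haveI := irrFintype P
  have hA : ∀ a b : P, a * b = b * a := fun a b => Subtype.ext (commute_of_prime hcard _ a.2 _ b.2)
  obtain ⟨Y, ε, a, hε, hYB, hte, hX, -, -, ha, hY, -, -, hgal, -, -⟩ :=
    defect_one_structure hM hcard hsq hpair
  obtain ⟨e, he⟩ : ∃ e, e = (Subgroup.centralizer (P : Set G)).relIndex (stabPair ⟨P, b⟩) := ⟨_, rfl⟩
  rw [← he] at hte hX hY ⊢
  by_cases hχY : χ ∈ Y
  swap
  · obtain ⟨h1, h2⟩ := ha χ ⟨hχ, hχY⟩
    exact ⟨a χ, {principal P}, h1, Or.inl (card_singleton _), fun u hu => by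
      rw [h2 u hu, Finset.sum_singleton, principal_apply, mul_one]⟩
  -- the norm of the column
  have hcol : ∀ u : P, u ≠ 1 →
      ∑ θ ∈ univ.filter (· ∈ Y), xiFun b (θ : G → ℂ) u * conj (xiFun b (θ : G → ℂ) u) =
        (p : ℂ) - e := by
    intro u hu
    have h := sum_xiFun_mul_conj hM hcard hsq hpair hu hu
    have h1 : (univ.filter fun σ : inertia b => (σ : MulAut P) u = u).card = 1 := by
      refine Finset.card_eq_one.2 ⟨1, Finset.eq_singleton_iff_unique_mem.2
        ⟨mem_filter.2 ⟨mem_univ _, rfl⟩, fun σ hσ => ?_⟩⟩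
      exact Subtype.ext (inertia_free hcard _ σ.2 u hu (mem_filter.1 hσ).2)
    rw [h1, Nat.cast_one, mul_one,
      ← Finset.sum_subtype (p := (· ∈ B)) (univ.filter (· ∈ B)) (fun x => by simp)
        (fun θ => xiFun b (θ : G → ℂ) u * conj (xiFun b (θ : G → ℂ) u)),
      ← Finset.sum_filter_add_sum_filter_not (univ.filter (· ∈ B)) (· ∈ Y)] at h
    rw [Finset.filter_filter, Finset.filter_filter,
      show (univ.filter fun θ => θ ∈ B ∧ θ ∈ Y) = univ.filter (· ∈ Y) from
        Finset.filter_congr fun θ _ => ⟨fun h => h.2, fun h => ⟨hYB h, h⟩⟩] at h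
    rw [Finset.sum_congr (s₁ := univ.filter fun θ => θ ∈ B ∧ θ ∉ Y) rfl (g := fun _ => (1 : ℂ))
      fun θ hθ => by
        obtain ⟨h2, h3⟩ := ha θ (mem_filter.1 hθ).2
        rw [h3 u hu, map_intCast]
        rcases h2 with h2 | h2 <;> simp [h2], Finset.sum_const, nsmul_one] at h
    have hcardX : (univ.filter fun θ => θ ∈ B ∧ θ ∉ Y).card = e := by
      rw [← hX, Nat.card_eq_fintype_card]
      exact (Fintype.card_of_subtype _ fun θ => by simp).symm
    rw [hcardX] at h
    linear_combination h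
  haveI : Fintype P := Fintype.ofFinite P
  have hgalY : ∀ θ ∈ Y, ∑ u ∈ univ.erase (1 : P),
      xiFun b (θ : G → ℂ) u * conj (xiFun b (θ : G → ℂ) u) =
      ∑ u ∈ univ.erase (1 : P), xiFun b (χ : G → ℂ) u * conj (xiFun b (χ : G → ℂ) u) := by
    intro θ hθ
    obtain ⟨k, hk, hval⟩ := hgal χ hχY θ hθ
    have hk' : (Nat.card P).Coprime k := by rw [hcard]; exact hk.symm
    have hiff : ∀ u : P, u ^ k = 1 ↔ u = 1 := fun u => pow_eq_one_iff_of_coprime' hcard hk
    refine Finset.sum_equiv (powCoprime hk') (fun u => by simp [hiff u]) fun u hu => ?_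
    rw [hval u (Finset.ne_of_mem_erase hu)]
    rfl
  have ht : 0 < Nat.card Y := Nat.pos_of_ne_zero fun h => by
    rw [h, zero_mul] at hte; exact hp.ne_one hte.symm
  have htot : ∑ u ∈ univ.erase (1 : P), xiFun b (χ : G → ℂ) u * conj (xiFun b (χ : G → ℂ) u) =
      (e : ℂ) * ((p : ℂ) - e) := by
    have h1 : ∑ u ∈ univ.erase (1 : P), ∑ θ ∈ univ.filter (· ∈ Y),
        xiFun b (θ : G → ℂ) u * conj (xiFun b (θ : G → ℂ) u) = ((p : ℂ) - 1) * ((p : ℂ) - e) := by
      rw [Finset.sum_congr rfl fun u hu => hcol u (Finset.ne_of_mem_erase hu), Finset.sum_const,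
        Finset.card_erase_of_mem (mem_univ _), Finset.card_univ, ← Nat.card_eq_fintype_card, hcard,
        nsmul_eq_mul, Nat.cast_sub hp.one_le, Nat.cast_one]
    rw [Finset.sum_comm, Finset.sum_congr rfl fun θ hθ => hgalY θ (mem_filter.1 hθ).2,
      Finset.sum_const, nsmul_eq_mul] at h1
    have h2 : (univ.filter (· ∈ Y)).card = Nat.card Y := by
      rw [Nat.card_eq_fintype_card]
      exact (Fintype.card_of_subtype _ fun θ => by simp).symm
    rw [h2] at h1
    refine mul_left_cancel₀ (Nat.cast_ne_zero.2 ht.ne' : (Nat.card Y : ℂ) ≠ 0) (h1.trans ?_)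
    have h3 : (Nat.card Y : ℂ) * e + 1 = p := by exact_mod_cast hte
    rw [← h3]; ring
  -- coefficients
  have hgen := isGeneralized_xiFun (b := b) hcard χ
  choose c hc using fun l : IrrCharacter P => (isGeneralized_iff_inner.1 hgen).2 l
  have hval : ∀ u : P, xiFun b (χ : G → ℂ) u = ∑ l : IrrCharacter P, (c l : ℂ) * (l : P → ℂ) u := by
    intro u
    have h := congrFun (classFun_eq_sum (isClassFunction_of_isGeneralized hgen)) u
    simp only [Finset.sum_apply, Pi.smul_apply, smul_eq_mul] at h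
    rw [h]
    exact Finset.sum_congr rfl fun l _ => by rw [hc]
  have hcardI : Fintype.card (IrrCharacter P) = p := by
    rw [← Nat.card_eq_fintype_card, card_irrCharacter_of_comm hA, hcard]
  have hone : xiFun b (χ : G → ℂ) 1 = ((∑ l, c l : ℤ) : ℂ) := by
    rw [hval, Int.cast_sum]
    exact Finset.sum_congr rfl fun l _ => by rw [irr_one_of_comm hA, mul_one]
  haveI : Nontrivial P := Finite.one_lt_card_iff_nontrivial.1 (hcard ▸ hp.one_lt)
  have hT : (p : ℤ) ∣ (∑ l, c l) - ε * e := by
    obtain ⟨u, hu⟩ := exists_ne (1 : P)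
    refine dvd_of_memLocalIdeal_intCast hpM ?_
    have h1 : MemLocalIdeal M (∑ l, (c l : ℂ) * ((l : P → ℂ) u - 1)) :=
      MemLocalIdeal.sum' fun l _ => MemLocalIdeal.mul_left' (intCast_mem (loc M) (c l))
        (memLocalIdeal_root_sub_one hpM (n := 1) (by
          rw [pow_one, ← hcard]; exact irr_pow_card hA l u))
    have h2 := MemLocalIdeal.sub' (hY χ hχY u hu) h1
    refine (congrArg (MemLocalIdeal M) ?_).mp h2
    simp only [mul_sub, mul_one, Finset.sum_sub_distrib, ← hval]
    push_cast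
    ring
  have hV : (p : ℤ) * ∑ l, c l * c l - (∑ l, c l) * (∑ l, c l) = (e : ℤ) * (p - e) := by
    have h1 := inner_self_eq (φ := xiFun b (χ : G → ℂ))
    have h2 : classInner (xiFun b (χ : G → ℂ)) (xiFun b (χ : G → ℂ)) =
        ((∑ l, c l * c l : ℤ) : ℂ) := by
      rw [inner_eq_sum (isClassFunction_of_isGeneralized hgen), Int.cast_sum]
      exact Finset.sum_congr rfl fun l _ => by rw [hc, map_intCast, Int.cast_mul]
    rw [inner_def, ← Finset.add_sum_erase _ _ (mem_univ (1 : P)), htot, hone, map_intCast,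
      hcard] at h2
    have hp0 : (p : ℂ) ≠ 0 := Nat.cast_ne_zero.2 hp.ne_zero
    rw [inv_mul_eq_iff_eq_mul₀ hp0] at h2
    have h3 : (p : ℂ) * ((∑ l, c l * c l : ℤ) : ℂ) -
        ((∑ l, c l : ℤ) : ℂ) * ((∑ l, c l : ℤ) : ℂ) = (e : ℂ) * ((p : ℂ) - e) := by
      linear_combination -h2
    exact_mod_cast h3
  obtain ⟨O, s, hO, hs⟩ := signed_indicator hε hcardI hp.ne_zero c hT hV
  refine ⟨ε, O, hε, Or.inr hO, fun u hu => ?_⟩
  have hsum := sum_degree_mul (G := P) u
  simp only [irr_one_of_comm hA, one_mul, if_neg hu] at hsum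
  rw [hval]
  simp only [hs, Int.cast_add, Int.cast_mul, add_mul, Finset.sum_add_distrib, ← Finset.mul_sum,
    hsum, mul_zero, add_zero, mul_assoc]
  congr 1
  rw [Finset.sum_congr (s₁ := (univ : Finset (IrrCharacter P))) rfl
    (g := fun l => if l ∈ O then (l : P → ℂ) u else 0) fun l _ => by split_ifs <;> simp,
    Finset.sum_ite_mem, Finset.univ_inter]

end CfsgLib.PSubTwo
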