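import Cfsg.Agent.Lib.PSubTwo.Classify

/-!
# The order of the group
-/

set_option autoImplicit false
set_option linter.unusedSectionVars false
set_option linter.unusedVariables false
set_option linter.style.haveILetI false

namespace CfsgLib.PSubTwo

open Cfsg Chars BlockOrth Finset
open scoped ComplexConjugate

universe u

variable {G : Type u} [Group G] [Fintype G] {p : ℕ} [Fact p.Prime]
  {P : Sylow p G} {ζ : IrrCharacter G} {x : G} {e : AddChar (ZMod p) ℂ} {K : ZMod p → ℕ}

theorem Setup.centralScalar_ne_zero (S : Setup P ζ) {c : G} (hc : c ∈ Subgroup.center G) :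
    centralScalar (ζ : G → ℂ) c ≠ 0 := fun h => by
  have := S.norm_centralScalar hc
  rw [h, norm_zero] at this
  exact zero_ne_one this

theorem card_of_singular_regular {F : G → ℂ} [DecidablePred fun g : G => p ∣ orderOf g] :
    ∑ g, F g = ∑ g ∈ univ.filter (fun g : G => p ∣ orderOf g), F g +
      ∑ g ∈ univ.filter (fun g : G => ¬ p ∣ orderOf g), F g :=
  (Finset.sum_filter_add_sum_filter_not _ _ _).symm

open scoped Classical in
theorem Setup.regular_sum (S : Setup P ζ)
    (hcl : ∀ g, ¬ p ∣ orderOf g → RegType ζ g) {F : G → ℂ} {u v : ℂ}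
    (hu : ∀ c ∈ Subgroup.center G, F c = u)
    (hv : ∀ s c, s * s = 1 → s ∉ Subgroup.center G → c ∈ Subgroup.center G →
      (ζ : G → ℂ) s = -1 → ¬ p ∣ orderOf (s * c) → F (s * c) = v)
    (h0 : ∀ g, ¬ p ∣ orderOf g → (ζ : G → ℂ) g = 0 → F g = 0) :
    ∑ g ∈ univ.filter (fun g : G => ¬ p ∣ orderOf g), F g =
      (Nat.card (Subgroup.center G) : ℂ) * u + ((univ.filter fun g : G =>
        ¬ p ∣ orderOf g ∧ g ∉ Subgroup.center G ∧ (ζ : G → ℂ) g ≠ 0).card : ℂ) * v := by
  rw [← Finset.sum_filter_add_sum_filter_not _ (fun g : G => g ∈ Subgroup.center G),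
    Finset.filter_filter, Finset.filter_filter]
  congr 1
  · rw [Finset.filter_congr (q := fun g : G => g ∈ Subgroup.center G) fun g _ =>
        ⟨fun h => h.2, fun h => ⟨S.not_dvd_orderOf_center h, h⟩⟩,
      Finset.sum_congr rfl fun g hg => hu g (mem_filter.1 hg).2, Finset.sum_const, nsmul_eq_mul,
      Nat.card_eq_fintype_card, Fintype.card_subtype]
  · rw [Finset.sum_congr (s₁ := univ.filter fun g : G => ¬ p ∣ orderOf g ∧ g ∉ Subgroup.center G) rfl
      (g := fun g => if (ζ : G → ℂ) g ≠ 0 then v else 0) fun g hg => ?_,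
      ← Finset.sum_filter, Finset.filter_filter, Finset.sum_const, nsmul_eq_mul]
    · congr 2
      simp only [and_assoc]
    obtain ⟨-, hgp, hgc⟩ := mem_filter.1 hg
    split_ifs with hne
    · rcases hcl g hgp with h | ⟨s, c, hs, hsc, hc, rfl, hζs⟩ | h
      · exact absurd h hgc
      · exact hv s c hs hsc hc hζs hgp
      · exact absurd h hne
    · exact h0 g hgp (not_not.1 hne)

/-- **The order formula.** -/
theorem Shape.card_eq (H : Shape P ζ x e) (S : Setup P ζ)
    (hZ : Odd (Nat.card (Subgroup.center G))) :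
    Nat.card G = p * (p - 1) * (p - 2) * Nat.card (Subgroup.center G) := by
  classical
  have hp : p.Prime := Fact.out
  have h5 := S.five_lt
  haveI : NeZero (Nat.card G) := ⟨Nat.card_pos.ne'⟩
  obtain ⟨K, E⟩ := exists_expo (G := G) (p := p) (by omega) S.dvd_card S.not_sq
  obtain ⟨hfund, hsym⟩ := H.fundamental S E hZ
  have hcl := S.classify E hZ hfund
  obtain ⟨σ, hσ⟩ := CharApps.exists_galois_pow (Nat.card G) (E.coprime 1 one_ne_zero)
  have hgal : ∀ a : G, σ ((ζ : G → ℂ) a) = (ζ : G → ℂ) (a ^ K 1) := fun a =>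
    CharApps.galois_apply σ hσ (isCharacter_of_irr ζ.2) a pow_card_eq_one'
  have h11 : Dlt (1 : ZMod p) 1 = 1 := by
    rw [Dlt, if_pos rfl, if_neg, add_zero]
    intro h
    exact S.two_ne_zero (by linear_combination h)
  have hG : (Nat.card G : ℂ) ≠ 0 := Nat.cast_ne_zero.2 Nat.card_pos.ne'
  -- first count
  have e1 := congrArg (fun z => (Nat.card G : ℂ) * z) (inner_irr_self ζ)
  simp only [inner_def] at e1
  rw [← mul_assoc, mul_inv_cancel₀ hG, one_mul, mul_one, card_of_singular_regular (p := p)] at e1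
  have s1 := H.sum_singular' S (F := fun g => (ζ : G → ℂ) g * conj ((ζ : G → ℂ) g))
    (f := fun a => Phi e (a * 1) * Phi e (a * 1))
    (fun g h => by simp only [isClassFunction_irr ζ g h]) (fun a ha c hc => by
      rw [H.zeta_singular ha hc, map_mul, map_neg, conj_Phi, mul_one]
      linear_combination (Phi e a * Phi e a) * S.centralScalar_mul_conj hc)
  rw [sum_erase_Phi_mul H.ne_one, h11] at s1
  rw [S.regular_sum hcl (u := ((p - 2 : ℕ) : ℂ) * ((p - 2 : ℕ) : ℂ)) (v := 1)
    (fun c hc => by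
      rw [S.value_central hc, map_mul, Complex.conj_natCast]
      linear_combination (((p - 2 : ℕ) : ℂ) * ((p - 2 : ℕ) : ℂ)) * S.centralScalar_mul_conj hc)
    (fun s c _ _ hc hs _ => by
      rw [S.mul_central hc, hs, map_mul, map_neg, map_one]
      linear_combination S.centralScalar_mul_conj hc)
    (fun g _ h => by rw [h, zero_mul])] at e1
  -- second count
  have e2 := congrArg (fun z => (Nat.card G : ℂ) * z) hsym
  simp only [inner_def] at e2
  rw [← mul_assoc, mul_inv_cancel₀ hG, one_mul, mul_zero, card_of_singular_regular (p := p)] at e2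
  have s2 := H.sum_singular' S
    (F := fun g => sym2 (ζ : G → ℂ) g * conj ((ζ : G → ℂ) (g ^ K 1)))
    (f := fun a => -Phi e (a * 1))
    (fun g h => by
      simp only [isClassFunction_of_isCharacter (isCharacter_sym2 ζ) g h, conj_pow,
        isClassFunction_irr ζ (g ^ K 1) h]) (fun a ha c hc => by
      rw [H.sym2_singular S ha hc, H.conjugate_singular S E hZ ha one_ne_zero hc]
      simp only [map_mul, map_neg, conj_Phi]
      linear_combination (-Phi e (a * 1) *
        (centralScalar (ζ : G → ℂ) c * conj (centralScalar (ζ : G → ℂ) c) + 1)) *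
        S.centralScalar_mul_conj hc)
  rw [Finset.sum_neg_distrib, sum_erase_Phi H.ne_one one_ne_zero] at s2
  have hsqc : ∀ c ∈ Subgroup.center G, c ^ K 1 = c * c := fun c hc =>
    E.odd_sq 1 c (S.not_dvd_orderOf_center hc) (S.odd_orderOf_center hZ hc)
  rw [S.regular_sum hcl
    (u := (((p - 2 : ℕ) : ℂ) + 1) / 2 * ((p - 2 : ℕ) : ℂ) * ((p - 2 : ℕ) : ℂ))
    (v := -((((p - 2 : ℕ) : ℂ) + 1) / 2))
    (fun c hc => by
      rw [sym2, hsqc c hc, S.value_central hc, S.value_central (mul_mem hc hc),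
        S.centralScalar_sq hc]
      simp only [map_mul, Complex.conj_natCast]
      linear_combination ((((p - 2 : ℕ) : ℂ) + 1) / 2 * ((p - 2 : ℕ) : ℂ) * ((p - 2 : ℕ) : ℂ) *
        (centralScalar (ζ : G → ℂ) c * conj (centralScalar (ζ : G → ℂ) c) + 1)) *
        S.centralScalar_mul_conj hc)
    (fun s c hs hsc hc hζs hreg => by
      have ho : orderOf s = 2 ^ 1 := by
        rw [pow_one]
        exact orderOf_eq_prime (by rw [pow_two, hs]) fun h => hsc (by rw [h]; exact one_mem _)
      have hcomm : Commute s c := Subgroup.mem_center_iff.1 hc s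
      rw [sym2, hcomm.mul_pow, E.two_fix 1 s 1 ho, hsqc c hc, hcomm.symm.mul_mul_mul_comm, hs,
        one_mul, S.mul_central hc, S.mul_central (mul_mem hc hc) 1,
        S.mul_central (mul_mem hc hc) s, hζs, S.deg, S.centralScalar_sq hc]
      simp only [map_mul, map_neg, map_one]
      linear_combination (-((((p - 2 : ℕ) : ℂ) + 1) / 2) *
        (centralScalar (ζ : G → ℂ) c * conj (centralScalar (ζ : G → ℂ) c) + 1)) *
        S.centralScalar_mul_conj hc)
    (fun g _ h => by rw [← hgal, h, map_zero, map_zero, mul_zero])] at e2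
  generalize (univ.filter fun g : G => ¬ p ∣ orderOf g ∧ g ∉ Subgroup.center G ∧
    (ζ : G → ℂ) g ≠ 0).card = I at e1 e2
  have key : ((Nat.card G : ℕ) : ℂ) =
      ((p * (p - 1) * (p - 2) * Nat.card (Subgroup.center G) : ℕ) : ℂ) := by
    refine mul_left_cancel₀ (mul_ne_zero (_root_.two_ne_zero (α := ℂ)) S.deg_ne_zero) ?_
    simp only [Nat.cast_mul, Nat.cast_sub (show 1 ≤ p by omega),
      Nat.cast_sub (show 2 ≤ p by omega), Nat.cast_one, Nat.cast_ofNat] at e1 e2 ⊢
    linear_combination (-((p : ℂ) - 1) * (p : ℂ)) * e1 - 2 * (p : ℂ) * e2 +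
      (((p : ℂ) - 1) / 2) * s1 + s2
  exact_mod_cast key

end CfsgLib.PSubTwo
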