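import Cfsg.Agent.Lib.PSubTwo.Galois

/-!
# The exterior square and the fundamental equation
-/

set_option autoImplicit false
set_option linter.unusedSectionVars false
set_option linter.unusedVariables false
set_option linter.style.haveILetI false

namespace CfsgLib.PSubTwo

open Cfsg Chars BlockOrth Finset
open scoped ComplexConjugate

universe u

variable {G : Type u} [Group G] [Fintype G] {p : ℕ} [Fact p.Prime]
  {P : Sylow p G} {ζ : IrrCharacter G} {x : G} {e : AddChar (ZMod p) ℂ} {K : ZMod p → ℕ}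

theorem exists_inverter (H : Shape P ζ x e) (S : Setup P ζ) :
    ∃ n : G, n * n ∈ Subgroup.center G ∧ n ∉ Subgroup.center G ∧ ¬ p ∣ orderOf n ∧
      n * x * n⁻¹ = x⁻¹ := by
  have hp : p.Prime := Fact.out
  have h5 := S.five_lt
  obtain ⟨n, hnN, hn⟩ := H.inv
  have key : ∀ k : ℕ, n ^ k * x * (n ^ k)⁻¹ = if Even k then x else x⁻¹ := by
    intro k
    induction k with
    | zero => simp
    | succ k ih =>
      have h2 : n ^ (k + 1) * x * (n ^ (k + 1))⁻¹ = n * (n ^ k * x * (n ^ k)⁻¹) * n⁻¹ := by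
        rw [pow_succ']; group
      rw [h2, ih]
      by_cases hk : Even k
      · rw [if_pos hk, if_neg (by simp [Nat.even_add_one, hk]), hn]
      · rw [if_neg hk, if_pos (by simp [Nat.even_add_one, hk]), ← conj_inv, hn, inv_inv]
  have hpo : ¬ Even p := by
    rw [Nat.not_even_iff_odd]; exact hp.odd_of_ne_two (by omega)
  have hn' : n ^ p * x * (n ^ p)⁻¹ = x⁻¹ := by rw [key, if_neg hpo]
  have hreg : ¬ p ∣ orderOf (n ^ p) := by
    intro h
    by_cases hd : p ∣ orderOf n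
    · obtain ⟨m, hm⟩ := hd
      rw [orderOf_pow_of_dvd hp.ne_zero ⟨m, hm⟩, hm, Nat.mul_div_cancel_left _ hp.pos] at h
      obtain ⟨r, hr⟩ := h
      exact S.not_sq (dvd_trans ⟨r, by rw [hm, hr]; ring⟩ (orderOf_dvd_natCard n))
    · exact hd (h.trans (orderOf_pow_dvd p))
  refine ⟨n ^ p, H.cent _ ?_ ?_, fun hc => H.not_centralizes S hn'
    (Subgroup.center_le_centralizer _ hc), hreg, hn'⟩
  · rw [H.mem_centralizer_iff S, ← pow_add]
    have h := key (p + p)
    rw [if_pos ⟨p, rfl⟩, mul_inv_eq_iff_eq_mul] at h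
    exact h
  · rw [← pow_two]; exact fun h => hreg (h.trans (orderOf_pow_dvd 2))

/-- A class of inverters is not a zero of `ζ`. -/
theorem Setup.ne_zero_of_sq_central (S : Setup P ζ) {n : G}
    (hn : n * n ∈ Subgroup.center G) : (ζ : G → ℂ) n ≠ 0 := by
  obtain ⟨m, ρ, hρ, h⟩ := ζ.2
  haveI := hρ
  obtain ⟨w, hw⟩ := exists_scalar_of_mem_center ρ (n * n) hn
  obtain ⟨b, μ, hμ, -, hb, -, h1, -⟩ := exists_eigenbasis_rep ρ n
  have hsq : ∀ i, μ i * μ i = w := by
    intro i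
    have h2 : ρ (n * n) (b i) = (μ i * μ i) • b i := by
      rw [map_mul, Module.End.mul_apply, hb, map_smul, hb, smul_smul]
    rw [hw, LinearMap.smul_apply, LinearMap.id_apply] at h2
    exact (smul_left_injective ℂ (b.ne_zero i) h2).symm
  rw [← h, h1]
  intro h0
  have hm : m = p - 2 := by
    have h2 := S.deg
    rw [← h, Representation.char_one, Module.finrank_pi, Fintype.card_fin] at h2
    exact_mod_cast h2
  have := S.five_lt
  have hcard : Fintype.card (Fin (Module.finrank ℂ (Fin m → ℂ))) = p - 2 := by simp [hm]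
  obtain ⟨i₀⟩ : Nonempty (Fin (Module.finrank ℂ (Fin m → ℂ))) :=
    Fintype.card_pos_iff.1 (by omega)
  have hμ0 : ∀ i, μ i ≠ 0 := fun i hi => by
    have := hμ i
    rw [hi, zero_pow (orderOf_pos n).ne'] at this
    exact zero_ne_one this
  classical
  have hpm : ∀ i, μ i = if μ i = μ i₀ then μ i₀ else -μ i₀ := fun i => by
    split_ifs with hi
    · exact hi
    · exact (mul_self_eq_mul_self_iff.1 ((hsq i).trans (hsq i₀).symm)).resolve_left hi
  rw [Finset.sum_congr rfl fun i _ => hpm i, Finset.sum_ite, Finset.sum_const, Finset.sum_const,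
    nsmul_eq_mul, nsmul_eq_mul, mul_neg, ← sub_eq_add_neg, ← sub_mul, mul_eq_zero, sub_eq_zero,
    Nat.cast_inj] at h0
  have h3 := Finset.card_filter_add_card_filter_not (s := univ) (fun i => μ i = μ i₀)
  rw [Finset.card_univ, hcard, h0.resolve_right (hμ0 i₀)] at h3
  have hodd := (Fact.out : p.Prime).odd_of_ne_two (by omega)
  obtain ⟨r, hr⟩ := hodd
  omega

/-- The multiplicities of distinct conjugates of `ζ` in a character. -/
theorem bound_of_inner {φ : G → ℂ} (hφ : IsCharacter G φ) {n d : ℕ} (h1 : φ 1 = (n : ℂ))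
    {ι : Type*} {R : Finset ι} {ψ : ι → IrrCharacter G}
    (hinj : Set.InjOn ψ R) (hd : ∀ b ∈ R, (ψ b : G → ℂ) 1 = (d : ℂ)) {m : ι → ℕ}
    (hm : ∀ b ∈ R, classInner φ (ψ b : G → ℂ) = (m b : ℂ)) :
    (∑ b ∈ R, m b * d ≤ n) ∧
      (∑ b ∈ R, m b * d = n → φ = ∑ b ∈ R, (m b : ℂ) • (ψ b : G → ℂ)) := by
  classical
  haveI := irrFintype G
  choose M hM using fun χ : IrrCharacter G => inner_irr_right_nat hφ χ
  have hMm : ∀ b ∈ R, M (ψ b) = m b := fun b hb =>
    Nat.cast_injective (R := ℂ) ((hM (ψ b)).symm.trans (hm b hb))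
  have hdeg : ∀ b ∈ R, charDegree (ψ b : G → ℂ) = d := fun b hb =>
    Nat.cast_injective (R := ℂ) (by rw [← CharApps.deg_eq]; exact hd b hb)
  have hexp := classFun_eq_sum (isClassFunction_of_isCharacter hφ)
  simp only [hM] at hexp
  have hn : n = ∑ χ : IrrCharacter G, M χ * charDegree (χ : G → ℂ) := by
    have h := congrFun hexp 1
    rw [h1, Finset.sum_apply] at h
    refine Nat.cast_injective (R := ℂ) ?_
    rw [h, Nat.cast_sum]
    exact Finset.sum_congr rfl fun χ _ => by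
      rw [Pi.smul_apply, smul_eq_mul, CharApps.deg_eq, Nat.cast_mul]
  have himg : ∑ b ∈ R, m b * d = ∑ χ ∈ R.image ψ, M χ * charDegree (χ : G → ℂ) := by
    rw [Finset.sum_image hinj]
    exact Finset.sum_congr rfl fun b hb => by rw [hMm b hb, hdeg b hb]
  have hsplit := Finset.sum_sdiff (f := fun χ : IrrCharacter G => M χ * charDegree (χ : G → ℂ))
    (Finset.subset_univ (R.image ψ))
  rw [← hn, ← himg] at hsplit
  refine ⟨by omega, fun heq => ?_⟩
  have h0 : ∀ χ ∈ univ \ R.image ψ, M χ = 0 := by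
    have hz : ∑ χ ∈ univ \ R.image ψ, M χ * charDegree (χ : G → ℂ) = 0 := by omega
    intro χ hχ
    refine (mul_eq_zero.1 (Finset.sum_eq_zero_iff.1 hz χ hχ)).resolve_right fun h => ?_
    exact irr_degree_ne_zero χ.2 (by rw [CharApps.deg_eq, h, Nat.cast_zero])
  rw [hexp, ← Finset.sum_sdiff (Finset.subset_univ (R.image ψ)),
    Finset.sum_eq_zero fun χ hχ => by rw [h0 χ hχ, Nat.cast_zero, zero_smul], zero_add,
    Finset.sum_image hinj]
  exact Finset.sum_congr rfl fun b hb => by rw [hMm b hb]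

/-- **The fundamental equation.** -/
theorem Shape.fundamental (H : Shape P ζ x e) (S : Setup P ζ) (E : Expo G p K)
    (hZ : Odd (Nat.card (Subgroup.center G))) :
    (∀ g, ¬ p ∣ orderOf g → (ζ : G → ℂ) g * (ζ : G → ℂ) g - (ζ : G → ℂ) (g * g) =
        ((p - 3 : ℕ) : ℂ) * (ζ : G → ℂ) (g ^ K 1)) ∧
      classInner (sym2 (ζ : G → ℂ)) (fun g => (ζ : G → ℂ) (g ^ K 1)) = 0 := by
  classical
  have hp : p.Prime := Fact.out
  have h5 := S.five_lt
  haveI : NeZero p := ⟨hp.ne_zero⟩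
  obtain ⟨t, ht⟩ : ∃ t, p = 2 * t + 1 := hp.odd_of_ne_two (by omega)
  obtain ⟨ψ, hψ⟩ := exists_conjugate E ζ
  obtain ⟨R, hR⟩ : ∃ R : Finset (ZMod p), R = (Finset.Icc 1 t).image (fun i : ℕ => (i : ZMod p)) :=
    ⟨_, rfl⟩
  have hlt : ∀ i ∈ Finset.Icc 1 t, ∀ j ∈ Finset.Icc 1 t,
      ((i : ZMod p) = (j : ZMod p) → i = j) ∧ ((i : ZMod p) ≠ -(j : ZMod p)) := by
    intro i hi j hj
    rw [Finset.mem_Icc] at hi hj
    refine ⟨fun h => Nat.ModEq.eq_of_lt_of_lt ((ZMod.natCast_eq_natCast_iff i j p).1 h) (by omega)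
      (by omega), fun h => ?_⟩
    rw [eq_neg_iff_add_eq_zero, ← Nat.cast_add, ZMod.natCast_eq_zero_iff] at h
    have := Nat.le_of_dvd (by omega) h
    omega
  have hRt : R.card = t := by
    rw [hR, Finset.card_image_of_injOn, Nat.card_Icc, Nat.add_sub_cancel]
    exact fun i hi j hj h => (hlt i hi j hj).1 h
  have hne : ∀ b ∈ R, ∀ c ∈ R, b ≠ -c := by
    rw [hR]
    simp only [Finset.mem_image]
    rintro _ ⟨i, hi, rfl⟩ _ ⟨j, hj, rfl⟩
    exact (hlt i hi j hj).2
  have hR0 : ∀ b ∈ R, b ≠ 0 := fun b hb h => hne b hb b hb (by rw [h, neg_zero])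
  have hD : ∀ b ∈ R, ∀ c ∈ R, Dlt b c = if b = c then 1 else 0 := fun b hb c hc => by
    rw [Dlt, if_neg (hne b hb c hc), add_zero]
  have h2R : (2 : ZMod p) ∈ R := by
    rw [hR, Finset.mem_image]
    exact ⟨2, Finset.mem_Icc.2 ⟨by omega, by omega⟩, by norm_num⟩
  have h1R : (1 : ZMod p) ∈ R := by
    rw [hR, Finset.mem_image]
    exact ⟨1, Finset.mem_Icc.2 ⟨by omega, by omega⟩, by norm_num⟩
  have hp2 : (2 : ℂ) * (p : ℂ) ≠ 0 := mul_ne_zero two_ne_zero (Nat.cast_ne_zero.2 hp.ne_zero)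
  have hψd : ∀ b ∈ R, (ψ b : G → ℂ) 1 = ((p - 2 : ℕ) : ℂ) := fun b hb => by
    rw [hψ b (hR0 b hb), one_pow, S.deg]
  -- products of the conjugates
  have hψinj : Set.InjOn ψ R := by
    intro b hb c hc h
    by_contra hbc
    have h1 := H.inner_diff S E hZ hψ (A := (ψ b : G → ℂ)) (f := fun a => -Phi e (a * b))
      (isClassFunction_irr _) (fun a ha z hz => by
        rw [hψ b (hR0 b hb), H.conjugate_singular S E hZ ha (hR0 b hb) hz])
      (hR0 b hb) (hR0 c hc)
    rw [h, sub_self, mul_zero] at h1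
    simp only [neg_mul, Finset.sum_neg_distrib, mul_sub, Finset.sum_sub_distrib,
      sum_erase_Phi_mul H.ne_one, hD b hb b hb, hD b hb c hc, if_neg hbc, if_pos] at h1
    exact hp2 (by linear_combination -h1)
  -- multiplicities in the exterior square
  choose me hme using fun b => inner_irr_right_nat (isCharacter_ext2 ζ) (ψ b)
  choose ms hms using fun b => inner_irr_right_nat (isCharacter_sym2 ζ) (ψ b)
  have hE : ∀ b ∈ R, (me b : ℂ) = (me 2 : ℂ) + 1 - (if b = 2 then 1 else 0) := by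
    intro b hb
    have h1 := H.inner_diff S E hZ hψ (A := ext2 (ζ : G → ℂ)) (f := fun a => Phi e (a * 2) + 1)
      (isClassFunction_of_isCharacter (isCharacter_ext2 ζ)) (fun a ha z hz => H.ext2_singular S ha hz)
      (hR0 b hb) (hR0 2 h2R)
    simp only [hme, add_mul, one_mul, mul_sub, Finset.sum_add_distrib, Finset.sum_sub_distrib,
      sum_erase_Phi_mul H.ne_one, sum_erase_Phi H.ne_one (hR0 b hb),
      sum_erase_Phi H.ne_one (hR0 2 h2R), hD 2 h2R b hb, hD 2 h2R 2 h2R, if_pos] at h1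
    refine mul_left_cancel₀ hp2 ?_
    rcases eq_or_ne b 2 with rfl | hb2
    · simp only [↓reduceIte] at h1 ⊢; linear_combination h1
    · rw [if_neg hb2]; rw [if_neg (Ne.symm hb2)] at h1; linear_combination h1
  have hS : ∀ b ∈ R, (ms b : ℂ) = (ms 1 : ℂ) := by
    intro b hb
    have h1 := H.inner_diff S E hZ hψ (A := sym2 (ζ : G → ℂ)) (f := fun _ => 1)
      (isClassFunction_of_isCharacter (isCharacter_sym2 ζ)) (fun a ha z hz => by
        rw [H.sym2_singular S ha hz, one_mul])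
      (hR0 b hb) (hR0 1 h1R)
    simp only [hms, one_mul, Finset.sum_sub_distrib, sum_erase_Phi H.ne_one (hR0 b hb),
      sum_erase_Phi H.ne_one (hR0 1 h1R)] at h1
    exact mul_left_cancel₀ hp2 (by linear_combination h1)
  have hE' : ∀ b ∈ R, me b + (if b = 2 then 1 else 0) = me 2 + 1 := fun b hb => by
    have h := hE b hb
    split_ifs at h ⊢ with hb2
    · subst hb2; rfl
    · rw [sub_zero] at h
      exact_mod_cast h
  have hS' : ∀ b ∈ R, ms b = ms 1 := fun b hb => by exact_mod_cast hS b hb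
  have hd : p - 2 = 2 * t - 1 := by omega
  have hsq : ((p - 2 : ℕ) : ℂ) = 2 * (t : ℂ) - 1 := by
    rw [hd, Nat.cast_sub (by omega)]; push_cast; ring
  have hext1 : ext2 (ζ : G → ℂ) 1 = (((p - 2) * (t - 1) : ℕ) : ℂ) := by
    rw [ext2, mul_one, S.deg, Nat.cast_mul, Nat.cast_sub (show 1 ≤ t by omega), hsq]; ring
  have hsym1 : sym2 (ζ : G → ℂ) 1 = (((p - 2) * t : ℕ) : ℂ) := by
    rw [sym2, mul_one, S.deg, Nat.cast_mul, hsq]; ring
  obtain ⟨hEle, hEeq⟩ := bound_of_inner (isCharacter_ext2 ζ) hext1 hψinj hψd (fun b _ => hme b)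
  obtain ⟨hSle, hSeq⟩ := bound_of_inner (isCharacter_sym2 ζ) hsym1 hψinj hψd (fun b _ => hms b)
  have hsumE : ∑ b ∈ R, me b + 1 = t * (me 2 + 1) := by
    have h := Finset.sum_congr rfl hE'
    rwa [Finset.sum_add_distrib, Finset.sum_ite_eq', if_pos h2R, Finset.sum_const, hRt,
      smul_eq_mul] at h
  have hm2 : me 2 = 0 := by
    rw [← Finset.sum_mul, mul_comm (p - 2)] at hEle
    have h1 := Nat.le_of_mul_le_mul_right hEle (by omega)
    by_contra h0
    have : t * 2 ≤ t * (me 2 + 1) := Nat.mul_le_mul_left t (by omega)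
    omega
  rw [hm2, zero_add, mul_one] at hsumE
  have hexp := hEeq (by rw [← Finset.sum_mul, mul_comm (p - 2)]; congr 1; omega)
  -- on the regular elements
  have hregψ : ∀ g, ¬ p ∣ orderOf g → ∀ b ∈ R, (ψ b : G → ℂ) g = (ζ : G → ℂ) (g ^ K 1) :=
    fun g hg b hb => by rw [hψ b (hR0 b hb), E.indep b 1 g hg]
  have hfund : ∀ g, ¬ p ∣ orderOf g → (ζ : G → ℂ) g * (ζ : G → ℂ) g - (ζ : G → ℂ) (g * g) =
      ((p - 3 : ℕ) : ℂ) * (ζ : G → ℂ) (g ^ K 1) := by
    intro g hg
    have h := congrFun hexp g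
    rw [Finset.sum_apply, Finset.sum_congr (s₁ := R) rfl
      (g := fun b => (me b : ℂ) * (ζ : G → ℂ) (g ^ K 1)) (fun b hb => by
        rw [Pi.smul_apply, smul_eq_mul, hregψ g hg b hb]), ← Finset.sum_mul, ← Nat.cast_sum,
      show ∑ b ∈ R, me b = t - 1 by omega, ext2] at h
    rw [show p - 3 = 2 * (t - 1) by omega, Nat.cast_mul, Nat.cast_ofNat]
    linear_combination 2 * h
  refine ⟨hfund, ?_⟩
  rw [show (fun g => (ζ : G → ℂ) (g ^ K 1)) = (ψ 1 : G → ℂ) from
    funext fun g => (hψ 1 one_ne_zero g).symm, hms, Nat.cast_eq_zero]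
  by_contra hne0
  have hsumS : ∑ b ∈ R, ms b = t * ms 1 := by
    rw [Finset.sum_congr rfl hS', Finset.sum_const, hRt, smul_eq_mul]
  rw [← Finset.sum_mul, hsumS, mul_comm (p - 2)] at hSle
  have h1 := Nat.le_of_mul_le_mul_right hSle (by omega)
  have hms1 : ms 1 = 1 := by
    by_contra h2
    have : t * 2 ≤ t * ms 1 := Nat.mul_le_mul_left t (by omega)
    omega
  rw [hms1, mul_one] at hsumS
  have hexpS := hSeq (by rw [← Finset.sum_mul, hsumS, mul_comm])
  obtain ⟨n, hnn, hnc, hnp, -⟩ := exists_inverter H S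
  have h := congrFun hexpS n
  rw [Finset.sum_apply, Finset.sum_congr (s₁ := R) rfl
    (g := fun b => (ms b : ℂ) * (ζ : G → ℂ) (n ^ K 1)) (fun b hb => by
      rw [Pi.smul_apply, smul_eq_mul, hregψ n hnp b hb]), ← Finset.sum_mul, ← Nat.cast_sum,
    hsumS, sym2] at h
  have hf := hfund n hnp
  rw [show p - 3 = 2 * (t - 1) by omega, Nat.cast_mul, Nat.cast_sub (show 1 ≤ t by omega),
    Nat.cast_ofNat, Nat.cast_one] at hf
  have hz2 : (ζ : G → ℂ) n * (ζ : G → ℂ) n = ((p - 2 : ℕ) : ℂ) * (ζ : G → ℂ) (n ^ K 1) := by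
    rw [hsq]; linear_combination h + hf / 2
  have hnorm : ‖(ζ : G → ℂ) (n ^ K 1)‖ = ‖(ζ : G → ℂ) n‖ := by
    have hko : Odd (K 1) := by
      by_contra hev
      rw [Nat.not_odd_iff_even] at hev
      have h2 : 2 ∣ Nat.card G := by
        have ho : ∀ m : ℕ, orderOf n = m → 2 ∣ m := by
          intro m hm
          by_contra hodd
          refine hnc ?_
          have hn2 : n ∈ Subgroup.zpowers (n ^ 2) := by
            refine mem_zpowers_pow_iff.2 ?_
            rw [hm]; exact Nat.prime_two.coprime_iff_not_dvd.2 hodd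
          exact (Subgroup.zpowers_le.2 (by rw [pow_two]; exact hnn)) hn2
        exact (ho _ rfl).trans (orderOf_dvd_natCard n)
      have := Nat.dvd_gcd (even_iff_two_dvd.1 hev) h2
      rw [(E.coprime 1 one_ne_zero).gcd_eq_one] at this
      omega
    obtain ⟨r, hr⟩ := hko
    rw [hr, pow_succ, pow_mul, irr_central_mul ζ (pow_mem (pow_two n ▸ hnn) r),
      norm_mul, S.norm_centralScalar (pow_mem (pow_two n ▸ hnn) r), one_mul]
  have habs := congrArg (‖·‖) hz2
  simp only [norm_mul, Complex.norm_natCast, hnorm] at habs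
  have hpos : ‖(ζ : G → ℂ) n‖ ≠ 0 := norm_ne_zero_iff.2 (S.ne_zero_of_sq_central hnn)
  exact hnc ((S.norm_eq_iff n).1 (mul_right_cancel₀ hpos habs))

end CfsgLib.PSubTwo
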