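import Cfsg.Agent.Lib.PSubTwo.Setup

/-!
# The exponents and the Fourier sums
-/

set_option autoImplicit false
set_option linter.unusedSectionVars false
set_option linter.unusedVariables false
set_option linter.style.haveILetI false

namespace CfsgLib.PSubTwo

open Cfsg Chars Finset
open scoped ComplexConjugate

universe u

/-- Exponents prime to the group order which act on a prescribed way on the `p`-parts, as squaring
on the odd `p'`-parts, and trivially on the `2`-parts. -/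
structure Expo (G : Type u) [Group G] (p : ℕ) (K : ZMod p → ℕ) : Prop where
  coprime : ∀ a, a ≠ 0 → (K a).Coprime (Nat.card G)
  cast : ∀ a, (K a : ZMod p) = a
  indep : ∀ a b : ZMod p, ∀ g : G, ¬ p ∣ orderOf g → g ^ K a = g ^ K b
  odd_sq : ∀ a : ZMod p, ∀ g : G, ¬ p ∣ orderOf g → Odd (orderOf g) → g ^ K a = g * g
  two_fix : ∀ a : ZMod p, ∀ (g : G) (v : ℕ), orderOf g = 2 ^ v → g ^ K a = g

theorem exists_expo {G : Type u} [Group G] [Finite G] {p : ℕ} [Fact p.Prime] (hp2 : p ≠ 2)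
    (hdvd : p ∣ Nat.card G) (hsq : ¬ p ^ 2 ∣ Nat.card G) : ∃ K, Expo G p K := by
  have hp : p.Prime := Fact.out
  haveI : NeZero p := ⟨hp.ne_zero⟩
  obtain ⟨m, hm⟩ := hdvd
  have hm0 : m ≠ 0 := fun h => Nat.card_pos.ne' (by rw [hm, h, mul_zero])
  have hpm : p.Coprime m := hp.coprime_iff_not_dvd.2 fun ⟨r, hr⟩ => hsq
    ⟨r, by rw [hm, hr]; ring⟩
  obtain ⟨v, hv⟩ : ∃ v, v = m.factorization 2 := ⟨_, rfl⟩
  obtain ⟨o, ho⟩ : ∃ o, o = m / 2 ^ v := ⟨_, rfl⟩
  have hmo : 2 ^ v * o = m := by rw [ho, hv]; exact Nat.ordProj_mul_ordCompl_eq_self m 2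
  have hodd : ¬ 2 ∣ o := by rw [ho, hv]; exact Nat.not_dvd_ordCompl Nat.prime_two hm0
  have h2o : Nat.Coprime (2 ^ v) o := Nat.Coprime.pow_left _ (Nat.prime_two.coprime_iff_not_dvd.2 hodd)
  obtain ⟨k₀, hk2, hko⟩ := Nat.chineseRemainder h2o 1 2
  have hk₀ : Nat.Coprime k₀ m := by
    rw [← hmo]
    refine Nat.Coprime.mul_right ?_ ?_
    · rw [Nat.Coprime, hk2.gcd_eq]; exact Nat.gcd_one_left _
    · rw [Nat.Coprime, hko.gcd_eq]; exact Nat.prime_two.coprime_iff_not_dvd.2 hodd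
  have hreg : ∀ g : G, ¬ p ∣ orderOf g → orderOf g ∣ m := fun g hg => by
    refine (Nat.Coprime.dvd_mul_left ((hp.coprime_iff_not_dvd.2 hg).symm)).1 ?_
    rw [← hm]; exact orderOf_dvd_natCard g
  refine ⟨fun a => Nat.chineseRemainder hpm a.val k₀, ?_⟩
  have hK : ∀ a : ZMod p, ∀ g : G, ¬ p ∣ orderOf g →
      g ^ (Nat.chineseRemainder hpm a.val k₀ : ℕ) = g ^ k₀ := fun a g hg =>
    pow_eq_pow_iff_modEq.2 ((Nat.chineseRemainder hpm a.val k₀).2.2.of_dvd (hreg g hg))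
  constructor
  · intro a ha
    rw [hm]
    refine Nat.Coprime.mul_right ?_ ?_
    · rw [Nat.Coprime, (Nat.chineseRemainder hpm a.val k₀).2.1.gcd_eq]
      refine (hp.coprime_iff_not_dvd.2 fun h => ?_).symm
      exact ha ((ZMod.val_eq_zero a).1 (Nat.eq_zero_of_dvd_of_lt h (ZMod.val_lt a)))
    · rw [Nat.Coprime, (Nat.chineseRemainder hpm a.val k₀).2.2.gcd_eq]; exact hk₀
  · intro a
    rw [(ZMod.natCast_eq_natCast_iff _ _ p).2 (Nat.chineseRemainder hpm a.val k₀).2.1,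
      ZMod.natCast_zmod_val]
  · intro a b g hg
    rw [hK a g hg, hK b g hg]
  · intro a g hg hgo
    rw [hK a g hg, ← pow_two]
    refine pow_eq_pow_iff_modEq.2 (hko.of_dvd ?_)
    refine (Nat.Coprime.dvd_mul_left (m := 2 ^ v)
      (Nat.Coprime.pow_right v hgo.coprime_two_right)).1 ?_
    rw [hmo]; exact hreg g hg
  · intro a g w hgw
    have hpg : ¬ p ∣ orderOf g := fun h => hp2 (Nat.prime_eq_prime_of_dvd_pow hp Nat.prime_two
      (hgw ▸ h))
    rw [hK a g hpg]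
    conv_rhs => rw [← pow_one g]
    refine pow_eq_pow_iff_modEq.2 (hk2.of_dvd ?_)
    have h1 : orderOf g ∣ 2 ^ v * o := by rw [hmo]; exact hreg g hpg
    refine (Nat.Coprime.dvd_mul_right ?_).1 h1
    rw [hgw]
    exact Nat.Coprime.pow_left _ (Nat.prime_two.coprime_iff_not_dvd.2 hodd)

section Fourier

variable {p : ℕ} [Fact p.Prime] {e : AddChar (ZMod p) ℂ}

/-- `e a + e (-a)`. -/
noncomputable def Phi (e : AddChar (ZMod p) ℂ) (a : ZMod p) : ℂ := e a + e (-a)

/-- `1` at `±`-equal arguments. -/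
noncomputable def Dlt (u v : ZMod p) : ℂ := (if u = v then 1 else 0) + (if u = -v then 1 else 0)

theorem Phi_zero : Phi e 0 = 2 := by
  rw [Phi, neg_zero, AddChar.map_zero_eq_one]; norm_num

theorem conj_Phi (a : ZMod p) : conj (Phi e a) = Phi e a := by
  have h : ∀ b : ZMod p, conj (e b) = e (-b) := fun b => by
    rw [AddChar.map_neg_eq_inv]
    refine (Complex.inv_eq_conj (Complex.norm_eq_one_of_pow_eq_one (n := p) ?_
      (Fact.out : p.Prime).ne_zero)).symm
    rw [← AddChar.map_nsmul_eq_pow, nsmul_eq_mul, ZMod.natCast_self, zero_mul,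
      AddChar.map_zero_eq_one]
  rw [Phi, map_add, h, h, neg_neg, add_comm]

theorem Phi_mul (a b : ZMod p) : Phi e a * Phi e b = Phi e (a + b) + Phi e (a - b) := by
  rw [Phi, Phi, Phi, Phi, sub_eq_add_neg, neg_add, neg_add, neg_neg, AddChar.map_add_eq_mul,
    AddChar.map_add_eq_mul, AddChar.map_add_eq_mul, AddChar.map_add_eq_mul]
  ring

theorem sum_Phi (he : e ≠ 1) (u : ZMod p) :
    ∑ a : ZMod p, Phi e (a * u) = if u = 0 then 2 * (p : ℂ) else 0 := by
  have hprim := AddChar.IsPrimitive.of_ne_one he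
  have h := fun b : ZMod p => AddChar.sum_mulShift b hprim
  simp only [ZMod.card] at h
  have h2 : ∑ a : ZMod p, e (-(a * u)) = ∑ a : ZMod p, e (a * -u) := by simp only [mul_neg]
  simp only [Phi, Finset.sum_add_distrib, h2, h, neg_eq_zero]
  split_ifs <;> simp [two_mul]

theorem sum_Phi_mul (he : e ≠ 1) (u v : ZMod p) :
    ∑ a : ZMod p, Phi e (a * u) * Phi e (a * v) = 2 * (p : ℂ) * Dlt u v := by
  simp only [Phi_mul, Finset.sum_add_distrib, ← mul_add, ← mul_sub, sum_Phi he, Dlt,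
    sub_eq_zero, add_eq_zero_iff_eq_neg]
  split_ifs <;> ring

theorem sum_erase_Phi (he : e ≠ 1) {u : ZMod p} (hu : u ≠ 0) :
    ∑ a ∈ univ.erase (0 : ZMod p), Phi e (a * u) = -2 := by
  rw [Finset.sum_erase_eq_sub (mem_univ _), sum_Phi he, if_neg hu, zero_mul, Phi_zero]
  ring

theorem sum_erase_Phi_mul (he : e ≠ 1) (u v : ZMod p) :
    ∑ a ∈ univ.erase (0 : ZMod p), Phi e (a * u) * Phi e (a * v) = 2 * (p : ℂ) * Dlt u v - 4 := by
  rw [Finset.sum_erase_eq_sub (mem_univ _), sum_Phi_mul he, zero_mul, zero_mul, Phi_zero]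
  ring

end Fourier

end CfsgLib.PSubTwo
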