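import Cfsg.Agent.Lib.Chars.Indicator

/-!
# The symmetric and alternating squares of a character
-/

set_option autoImplicit false
set_option linter.style.haveILetI false

namespace CfsgLib.PSubTwo

open Cfsg CfsgLib.Chars

universe u

variable {G : Type u} [Group G]

/-- The symmetric (`s = 1`) and alternating (`s = -1`) square of a character. -/
theorem isCharacter_square_part {φ : G → ℂ} (hφ : IsCharacter G φ) {s : ℂ} (hs : s * s = 1) :
    IsCharacter G (fun g => (φ g * φ g + s * φ (g * g)) / 2) := by
  classical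
  obtain ⟨n, ρ, rfl⟩ := hφ
  let σ := squareRep ρ
  let t : Module.End ℂ (Matrix (Fin n) (Fin n) ℂ) :=
    (Matrix.transposeLinearEquiv (Fin n) (Fin n) ℂ ℂ).toLinearMap
  let E : Module.End ℂ (Matrix (Fin n) (Fin n) ℂ) := (2 : ℂ)⁻¹ • (1 + s • t)
  have ht : ∀ X, t (t X) = X := fun X => Matrix.transpose_transpose X
  have hcomm : ∀ g, σ g * E = E * σ g := by
    intro g
    have h1 : σ g * t = t * σ g := LinearMap.ext fun X => by
      show σ g X.transpose = (σ g X).transpose
      simp [σ, squareRep_apply, Matrix.transpose_mul, Matrix.mul_assoc]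
    simp only [E, mul_smul_comm, smul_mul_assoc, mul_add, add_mul, mul_one, one_mul, h1]
  have hidem : ∀ X, E (E X) = E X := by
    intro X
    simp only [E, LinearMap.smul_apply, LinearMap.add_apply, Module.End.one_apply, map_smul,
      map_add, ht, smul_add, smul_smul]
    rw [show (2 : ℂ)⁻¹ * s * ((2 : ℂ)⁻¹ * s) = (2 : ℂ)⁻¹ * (2 : ℂ)⁻¹ from by
      linear_combination ((2 : ℂ)⁻¹ * (2 : ℂ)⁻¹) * hs]
    module
  let W := LinearMap.range E
  have hW : ∀ g, ∀ w ∈ W, σ g w ∈ W := by
    rintro g _ ⟨v, rfl⟩
    exact ⟨σ g v, by rw [← Module.End.mul_apply, ← hcomm, Module.End.mul_apply]⟩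
  let τ : Representation ℂ G W :=
    { toFun := fun g => (σ g).restrict (hW g)
      map_one' := LinearMap.ext fun v => Subtype.ext (LinearMap.congr_fun (map_one σ) _)
      map_mul' := fun g g' => LinearMap.ext fun v =>
        Subtype.ext (LinearMap.congr_fun (map_mul σ g g') _) }
  convert isCharacter_character τ using 1
  funext g
  have hmem : ∀ v, (σ g * E) v ∈ W := fun v => by
    rw [Module.End.mul_apply]; exact hW g _ ⟨v, rfl⟩
  have htr := LinearMap.trace_restrict_eq_of_forall_mem W (σ g * E) hmem
  have hres : (σ g * E).restrict (fun v _ => hmem v) = τ g := by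
    refine LinearMap.ext fun w => Subtype.ext ?_
    obtain ⟨_, v, rfl⟩ := w
    show σ g (E (E v)) = σ g (E v)
    rw [hidem]
  rw [hres] at htr
  show _ = LinearMap.trace ℂ W (τ g)
  rw [htr, hcomm]
  simp only [E, smul_mul_assoc, add_mul, one_mul, map_smul, map_add, smul_eq_mul]
  rw [show LinearMap.trace ℂ _ (σ g) = ρ.character g * ρ.character g from character_squareRep ρ g,
    show LinearMap.trace ℂ _ (t * σ g) = ρ.character (g * g) from trace_transpose_squareRep ρ g]
  ring

end CfsgLib.PSubTwo
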