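import Cfsg.Agent.Lib.PSubTwo.Singular
import Cfsg.Agent.Lib.PSubTwo.Exponent
import Cfsg.Agent.Lib.PSubTwo.Squares
import Cfsg.Agent.Lib.CharApps.Galois

/-!
# The Galois conjugates against the exterior and symmetric squares
-/

set_option autoImplicit false
set_option linter.unusedSectionVars false
set_option linter.unusedVariables false
set_option linter.style.haveILetI false

namespace CfsgLib.PSubTwo

open Cfsg Chars BlockOrth Finset
open scoped ComplexConjugate

universe u

variable {G : Type u} [Group G] [Fintype G] {p : ℕ} [Fact p.Prime]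
  {P : Sylow p G} {ζ : IrrCharacter G} {x : G} {e : AddChar (ZMod p) ℂ} {K : ZMod p → ℕ}

theorem Setup.two_ne_zero (S : Setup P ζ) : (2 : ZMod p) ≠ 0 := by
  intro h
  have h' : ((2 : ℕ) : ZMod p) = 0 := by exact_mod_cast h
  have := Nat.le_of_dvd two_pos ((ZMod.natCast_eq_zero_iff 2 p).1 h')
  have := S.five_lt
  omega

theorem Setup.dvd_card (S : Setup P ζ) : p ∣ Nat.card G :=
  S.card_P ▸ Subgroup.card_subgroup_dvd_card _

theorem Setup.odd_orderOf_center (S : Setup P ζ) (hZ : Odd (Nat.card (Subgroup.center G))) {c : G}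
    (hc : c ∈ Subgroup.center G) : Odd (orderOf c) :=
  hZ.of_dvd_nat (Subgroup.orderOf_dvd_natCard _ hc)

theorem Setup.deg_ne_zero (S : Setup P ζ) : ((p - 2 : ℕ) : ℂ) ≠ 0 := by
  have := S.five_lt
  exact_mod_cast (show p - 2 ≠ 0 by omega)

theorem Setup.centralScalar_sq (S : Setup P ζ) {c : G} (hc : c ∈ Subgroup.center G) :
    centralScalar (ζ : G → ℂ) (c * c) =
      centralScalar (ζ : G → ℂ) c * centralScalar (ζ : G → ℂ) c := by
  rw [← pow_two c, centralScalar_pow ζ hc, pow_two]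

theorem Shape.zeta_singular (H : Shape P ζ x e) {a : ZMod p} (ha : a ≠ 0) {c : G}
    (hc : c ∈ Subgroup.center G) :
    (ζ : G → ℂ) (x ^ a.val * c) = -Phi e a * centralScalar (ζ : G → ℂ) c := H.val a ha c hc

theorem Shape.zeta_sq_singular (H : Shape P ζ x e) (S : Setup P ζ) {a : ZMod p} (ha : a ≠ 0)
    {c : G} (hc : c ∈ Subgroup.center G) :
    (ζ : G → ℂ) (x ^ a.val * c * (x ^ a.val * c)) =
      -Phi e (a * 2) * (centralScalar (ζ : G → ℂ) c * centralScalar (ζ : G → ℂ) c) := by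
  rw [((H.commute_center hc).pow_left _).symm.mul_mul_mul_comm, H.val_add, ← mul_two,
    H.zeta_singular (mul_ne_zero ha S.two_ne_zero) (mul_mem hc hc), S.centralScalar_sq hc]

theorem Shape.conjugate_singular (H : Shape P ζ x e) (S : Setup P ζ) (E : Expo G p K)
    (hZ : Odd (Nat.card (Subgroup.center G))) {a b : ZMod p} (ha : a ≠ 0) (hb : b ≠ 0) {c : G}
    (hc : c ∈ Subgroup.center G) :
    (ζ : G → ℂ) ((x ^ a.val * c) ^ K b) =
      -Phi e (a * b) * (centralScalar (ζ : G → ℂ) c * centralScalar (ζ : G → ℂ) c) := by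
  rw [((H.commute_center hc).pow_left _).mul_pow, H.val_pow, E.cast,
    E.odd_sq b c (S.not_dvd_orderOf_center hc) (S.odd_orderOf_center hZ hc),
    H.zeta_singular (mul_ne_zero ha hb) (mul_mem hc hc), S.centralScalar_sq hc]

open scoped Classical in
theorem Shape.sum_singular' (H : Shape P ζ x e) (S : Setup P ζ) {F : G → ℂ} {f : ZMod p → ℂ}
    (hF : ∀ g h, F (h * g * h⁻¹) = F g)
    (hf : ∀ a, a ≠ 0 → ∀ c ∈ Subgroup.center G, F (x ^ a.val * c) = f a) :
    2 * (p : ℂ) * ∑ g ∈ univ.filter (fun g : G => p ∣ orderOf g), F g =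
      (Nat.card G : ℂ) * ∑ a ∈ univ.erase (0 : ZMod p), f a := by
  have hz : (Nat.card (Subgroup.center G) : ℂ) ≠ 0 := Nat.cast_ne_zero.2 Nat.card_pos.ne'
  refine mul_right_cancel₀ hz ?_
  have h := H.sum_singular S hF
  rw [Finset.sum_congr (s₁ := univ.erase (0 : ZMod p)) rfl
    (g := fun a => (Nat.card (Subgroup.center G) : ℂ) * f a) fun a ha => by
      rw [Finset.sum_congr rfl fun (c : Subgroup.center G) _ => hf a (mem_erase.1 ha).1 c c.2,
        Finset.sum_const, Finset.card_univ, nsmul_eq_mul, Nat.card_eq_fintype_card],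
    ← Finset.mul_sum] at h
  push_cast at h
  linear_combination h

open scoped Classical in
/-- The inner product of two class functions whose product lives on the singular elements. -/
theorem Shape.inner_singular (H : Shape P ζ x e) (S : Setup P ζ) {A B : G → ℂ}
    {f : ZMod p → ℂ} (hA : IsClassFunction G A) (hB : IsClassFunction G B)
    (hreg : ∀ g, ¬ p ∣ orderOf g → A g * conj (B g) = 0)
    (hf : ∀ a, a ≠ 0 → ∀ c ∈ Subgroup.center G,
      A (x ^ a.val * c) * conj (B (x ^ a.val * c)) = f a) :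
    2 * (p : ℂ) * classInner A B = ∑ a ∈ univ.erase (0 : ZMod p), f a := by
  have h := H.sum_singular' S (F := fun g => A g * conj (B g)) (fun g h => by
    show A _ * conj (B _) = _
    rw [hA g h, hB g h]) hf
  rw [inner_def, ← Finset.sum_filter_of_ne (p := fun g : G => p ∣ orderOf g)
    (fun g _ hne => by_contra fun hg => hne (hreg g hg)), mul_left_comm, h, ← mul_assoc,
    inv_mul_cancel₀ (Nat.cast_ne_zero.2 Nat.card_pos.ne'), one_mul]

/-- The conjugate of `ζ` by the exponent of `b`. -/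
theorem exists_conjugate (E : Expo G p K) (ζ : IrrCharacter G) :
    ∃ ψ : ZMod p → IrrCharacter G, ∀ b, b ≠ 0 → ∀ g, (ψ b : G → ℂ) g = (ζ : G → ℂ) (g ^ K b) := by
  haveI : NeZero (Nat.card G) := ⟨Nat.card_pos.ne'⟩
  have h : ∀ b : ZMod p, ∃ χ : IrrCharacter G,
      b ≠ 0 → ∀ g, (χ : G → ℂ) g = (ζ : G → ℂ) (g ^ K b) := by
    intro b
    by_cases hb : b = 0
    · exact ⟨ζ, fun h => absurd hb h⟩
    obtain ⟨σ, hσ⟩ := CharApps.exists_galois_pow (Nat.card G) (E.coprime b hb)
    exact ⟨⟨_, CharApps.isIrr_galois ζ σ⟩, fun _ g =>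
      CharApps.galois_apply σ hσ (isCharacter_of_irr ζ.2) g pow_card_eq_one'⟩
  choose ψ hψ using h
  exact ⟨ψ, hψ⟩

/-- The exterior square. -/
noncomputable def ext2 (φ : G → ℂ) : G → ℂ := fun g => (φ g * φ g + (-1) * φ (g * g)) / 2

/-- The symmetric square. -/
noncomputable def sym2 (φ : G → ℂ) : G → ℂ := fun g => (φ g * φ g + 1 * φ (g * g)) / 2

theorem isCharacter_ext2 (ζ : IrrCharacter G) : IsCharacter G (ext2 (ζ : G → ℂ)) :=
  isCharacter_square_part (isCharacter_of_irr ζ.2) (by norm_num)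

theorem isCharacter_sym2 (ζ : IrrCharacter G) : IsCharacter G (sym2 (ζ : G → ℂ)) :=
  isCharacter_square_part (isCharacter_of_irr ζ.2) (by norm_num)

theorem Shape.ext2_singular (H : Shape P ζ x e) (S : Setup P ζ) {a : ZMod p} (ha : a ≠ 0)
    {c : G} (hc : c ∈ Subgroup.center G) :
    ext2 (ζ : G → ℂ) (x ^ a.val * c) =
      (Phi e (a * 2) + 1) * (centralScalar (ζ : G → ℂ) c * centralScalar (ζ : G → ℂ) c) := by
  rw [ext2, H.zeta_sq_singular S ha hc, H.zeta_singular ha hc]
  have h := Phi_mul (e := e) a a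
  rw [sub_self, Phi_zero, ← mul_two] at h
  linear_combination (centralScalar (ζ : G → ℂ) c * centralScalar (ζ : G → ℂ) c / 2) * h

theorem Shape.sym2_singular (H : Shape P ζ x e) (S : Setup P ζ) {a : ZMod p} (ha : a ≠ 0)
    {c : G} (hc : c ∈ Subgroup.center G) :
    sym2 (ζ : G → ℂ) (x ^ a.val * c) =
      centralScalar (ζ : G → ℂ) c * centralScalar (ζ : G → ℂ) c := by
  rw [sym2, H.zeta_sq_singular S ha hc, H.zeta_singular ha hc]
  have h := Phi_mul (e := e) a a
  rw [sub_self, Phi_zero, ← mul_two] at h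
  linear_combination (centralScalar (ζ : G → ℂ) c * centralScalar (ζ : G → ℂ) c / 2) * h

theorem Shape.inner_diff (H : Shape P ζ x e) (S : Setup P ζ) (E : Expo G p K)
    (hZ : Odd (Nat.card (Subgroup.center G))) {ψ : ZMod p → IrrCharacter G}
    (hψ : ∀ b, b ≠ 0 → ∀ g, (ψ b : G → ℂ) g = (ζ : G → ℂ) (g ^ K b)) {A : G → ℂ}
    {f : ZMod p → ℂ} (hA : IsClassFunction G A)
    (hf : ∀ a, a ≠ 0 → ∀ c ∈ Subgroup.center G, A (x ^ a.val * c) =
      f a * (centralScalar (ζ : G → ℂ) c * centralScalar (ζ : G → ℂ) c))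
    {b c : ZMod p} (hb : b ≠ 0) (hc : c ≠ 0) :
    2 * (p : ℂ) * (classInner A (ψ b : G → ℂ) - classInner A (ψ c : G → ℂ)) =
      ∑ a ∈ univ.erase (0 : ZMod p), f a * (Phi e (a * c) - Phi e (a * b)) := by
  rw [← Chars.inner_sub_right]
  refine H.inner_singular S hA
    (isClassFunction_sub (isClassFunction_irr _) (isClassFunction_irr _)) (fun g hg => ?_)
    (fun a ha z hz => ?_)
  · rw [Pi.sub_apply, hψ b hb, hψ c hc, E.indep b c g hg, sub_self, map_zero, mul_zero]
  · rw [Pi.sub_apply, hψ b hb, hψ c hc, H.conjugate_singular S E hZ ha hb hz,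
      H.conjugate_singular S E hZ ha hc hz, hf a ha z hz]
    simp only [map_sub, map_mul, map_neg, conj_Phi]
    have h1 := S.centralScalar_mul_conj hz
    linear_combination (f a * (Phi e (a * c) - Phi e (a * b)) *
      (centralScalar (ζ : G → ℂ) z * conj (centralScalar (ζ : G → ℂ) z) + 1)) * h1

end CfsgLib.PSubTwo
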