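import Cfsg.Agent.Lib.PSubTwo.Column
import Cfsg.Agent.Lib.Blocks.MaximalPairs

/-!
# The local shape of a character of degree `p - 2`
-/

set_option autoImplicit false
set_option linter.unusedSectionVars false
set_option linter.style.haveILetI false

namespace CfsgLib.PSubTwo

open Cfsg Chars Blocks BlockOrth CfsgLib.Modular Finset
open scoped ComplexConjugate

universe u

variable {G : Type u} [Group G] [Fintype G] {M : Ideal AlgInt} [M.IsPrime] {p : ℕ} [Fact p.Prime]
  {P : Subgroup G} {B : Set (IrrCharacter G)}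
  [Fintype (Subgroup.centralizer (P : Set G))]
  {b : Set (IrrCharacter (Subgroup.centralizer (P : Set G)))}

theorem commute_prime (hcard : Nat.card P = p) (a b : P) : a * b = b * a :=
  Subtype.ext (commute_of_prime hcard _ a.2 _ b.2)

/-- Sum of the multiplicities of the linear characters. -/
theorem sum_inner_comm {A : Type*} [Group A] [Fintype A] [Fintype (IrrCharacter A)]
    (hA : ∀ a b : A, a * b = b * a) (φ : A → ℂ) :
    ∑ l : IrrCharacter A, classInner φ (l : A → ℂ) = φ 1 := by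
  have hcl : IsClassFunction A φ := fun x g => by
    congr 1
    rw [hA, inv_mul_cancel_left] at *
  have h := congrFun (classFun_eq_sum hcl) 1
  simp only [Finset.sum_apply, Pi.smul_apply, smul_eq_mul, irr_one_of_comm hA, mul_one] at h
  exact h.symm

open scoped Classical in
/-- The orbit of the pair under the normalizer. -/
theorem card_orbit (hpair : IsBrauerPairOf p M B P b) (hmax : IsMaximalBrauerPair p M B P b)
    (hpM : (p : AlgInt) ∈ M) [Fintype (BrauerPairIdx G)] :
    (univ.filter fun a : BrauerPairIdx G => a.1 = P ∧ IsBrauerPairOf p M B a.1 a.2).card *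
        (Subgroup.centralizer (P : Set G)).relIndex (stabPair ⟨P, b⟩) =
      (Subgroup.centralizer (P : Set G)).relIndex (Subgroup.normalizer (P : Set G)) := by
  obtain ⟨a₀, ha₀⟩ : ∃ a₀ : BrauerPairIdx G, a₀ = ⟨P, b⟩ := ⟨_, rfl⟩
  obtain ⟨N, hN⟩ : ∃ N : Subgroup G, N = Subgroup.normalizer (P : Set G) := ⟨_, rfl⟩
  set S := univ.filter fun a : BrauerPairIdx G => a.1 = P ∧ IsBrauerPairOf p M B a.1 a.2 with hS
  have hTN : stabPair a₀ ≤ N := ha₀ ▸ hN ▸ stabPair_le_normalizer _
  have hmaps : ∀ g ∈ univ.filter (· ∈ N), conjPair g a₀ ∈ S := fun g hg => by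
    have hg' : g ∈ Subgroup.normalizer (P : Set G) := hN ▸ (mem_filter.1 hg).2
    refine mem_filter.2 ⟨mem_univ _, ?_, isBrauerPairOf_conj (ha₀ ▸ hpair) g⟩
    rw [ha₀]
    exact map_conj_of_mem_normalizer' hg'
  have hfib : ∀ a ∈ S, ((univ.filter (· ∈ N)).filter fun g => conjPair g a₀ = a).card =
      Nat.card (stabPair a₀) := by
    intro a ha
    obtain ⟨ha1, ha2⟩ := (mem_filter.1 ha).2
    obtain ⟨Q, c⟩ := a
    obtain rfl : Q = P := ha1
    obtain ⟨g₁, hg₁N, hg₁⟩ := exists_conj_pair_same_group hpM hmax ha2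
    rw [← ha₀] at hg₁
    rw [Nat.card_eq_fintype_card, ← Finset.card_univ]
    refine Finset.card_bij' (fun g hg => (⟨g₁⁻¹ * g, ?_⟩ : stabPair a₀))
      (fun t _ => g₁ * (t : G)) (fun g _ => mem_univ _) (fun t _ => ?_) (fun g _ => by simp)
      (fun t _ => by simp)
    · show conjPair (g₁⁻¹ * g) a₀ = a₀
      rw [← conjPair_mul, (mem_filter.1 hg).2, ← hg₁, conjPair_mul, inv_mul_cancel, conjPair_one]
    · refine mem_filter.2 ⟨mem_filter.2 ⟨mem_univ _, mul_mem (hN ▸ hg₁N) (hTN t.2)⟩, ?_⟩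
      rw [← conjPair_mul, show conjPair (t : G) a₀ = a₀ from t.2, hg₁]
  have h := Finset.card_eq_sum_card_fiberwise hmaps
  rw [Finset.sum_congr rfl hfib, Finset.sum_const, smul_eq_mul] at h
  have hNc : (univ.filter (· ∈ N)).card = Nat.card N := by
    rw [Nat.card_eq_fintype_card]
    exact (Fintype.card_of_subtype _ fun θ => by simp).symm
  rw [hNc] at h
  have hC1 : Subgroup.centralizer (P : Set G) ≤ stabPair a₀ :=
    ha₀ ▸ centralizer_le_stabPair hpair.1.2
  have e1 := Subgroup.relIndex_mul_relIndex ⊥ _ _ bot_le hC1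
  have e2 := Subgroup.relIndex_mul_relIndex ⊥ _ _ bot_le (hC1.trans hTN)
  simp only [Subgroup.relIndex_bot_left] at e1 e2
  rw [← e1, ← e2] at h
  rw [← ha₀, ← hN]
  exact Nat.eq_of_mul_eq_mul_left (Nat.card_pos (α := Subgroup.centralizer (P : Set G)))
    (h.trans (by ring)).symm

open scoped Classical in
/-- The values at the singular elements. -/
theorem char_apply_mul (hM : IsPModular p M) (hcard : Nat.card P = p)
    (hsq : ¬ p ^ 2 ∣ Nat.card G) (hpair : IsBrauerPairOf p M B P b) {χ : IrrCharacter G}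
    (hχ : χ ∈ B) :
    ∃ (ι : Finset (BrauerPairIdx G)) (O : BrauerPairIdx G → Finset (IrrCharacter P)) (ε : ℤ)
      (r : ℕ) (θ : BrauerPairIdx G → IrrCharacter (Subgroup.centralizer (P : Set G))) (m : ℕ),
      (ε = 1 ∨ ε = -1) ∧ 0 < m ∧ 0 < r ∧ ∑ a ∈ ι, (O a).card = r ∧
      (∀ a ∈ ι, (θ a : Subgroup.centralizer (P : Set G) → ℂ) 1 = (m : ℂ)) ∧
      r ∣ (Subgroup.centralizer (P : Set G)).relIndex (Subgroup.normalizer (P : Set G)) ∧
      ∀ (v : P), v ≠ 1 → ∀ y : Subgroup.centralizer (P : Set G), ¬ p ∣ orderOf y →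
        (χ : G → ℂ) ((v : G) * y) = (ε : ℂ) * ∑ a ∈ ι, (∑ l ∈ O a, (l : P → ℂ) v) *
          (θ a : Subgroup.centralizer (P : Set G) → ℂ) y := by
  have hpM := hM.2.2
  haveI : Fintype (BrauerPairIdx G) := Fintype.ofFinite _
  haveI := irrFintype P
  have hmax := isMaximal_of_sylow_prime hpM hcard hsq hpair
  obtain ⟨θ₀, hθb, hθ⟩ := exists_canonical hpM hcard hsq hpair.1.2
  obtain ⟨ε, O₀, hε, hO₀, hval⟩ := column_shape hM hcard hsq hpair hχ
  set S := univ.filter fun a : BrauerPairIdx G => a.1 = P ∧ IsBrauerPairOf p M B a.1 a.2 with hS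
  have hS' : ∀ a : BrauerPairIdx G, ∃ g ∈ Subgroup.normalizer (P : Set G),
      a ∈ S → conjPair g ⟨P, b⟩ = a := by
    intro a
    by_cases ha : a ∈ S
    · obtain ⟨ha1, ha2⟩ := (mem_filter.1 ha).2
      obtain ⟨Q, c⟩ := a
      obtain rfl : Q = P := ha1
      obtain ⟨g, hg, hga⟩ := exists_conj_pair_same_group hpM hmax ha2
      exact ⟨g, hg, fun _ => hga⟩
    · exact ⟨1, one_mem _, fun h => absurd h ha⟩
  choose g hgN hga using hS'
  let α : BrauerPairIdx G → MulAut P := fun a =>
    P.normalizerMonoidHom ⟨(g a)⁻¹, inv_mem (hgN a)⟩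
  have hα : ∀ a (v : P), ((α a v : P) : G) = (g a)⁻¹ * v * g a := fun a v => by
    show (g a)⁻¹ * (v : G) * ((g a)⁻¹)⁻¹ = _
    rw [inv_inv]
  have hconjC : ∀ a, ∀ c ∈ Subgroup.centralizer (P : Set G),
      (g a)⁻¹ * c * g a ∈ Subgroup.centralizer (P : Set G) := by
    intro a c hc
    rw [Subgroup.mem_centralizer_iff] at hc ⊢
    intro w hw
    have h1 := hc _ ((Subgroup.mem_normalizer_iff.1 (hgN a) w).1 hw)
    calc w * ((g a)⁻¹ * c * g a) = (g a)⁻¹ * ((g a * w * (g a)⁻¹) * c) * g a := by group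
      _ = (g a)⁻¹ * (c * (g a * w * (g a)⁻¹)) * g a := by rw [h1]
      _ = _ := by group
  have hconjC' : ∀ a, ∀ c ∈ Subgroup.centralizer (P : Set G),
      g a * c * (g a)⁻¹ ∈ Subgroup.centralizer (P : Set G) := by
    intro a c hc
    rw [Subgroup.mem_centralizer_iff] at hc ⊢
    intro w hw
    have hw' : (g a)⁻¹ * w * g a ∈ P := by
      simpa using (Subgroup.mem_normalizer_iff.1 (inv_mem (hgN a)) w).1 hw
    have h1 := hc _ hw'
    calc w * (g a * c * (g a)⁻¹) = g a * (((g a)⁻¹ * w * g a) * c) * (g a)⁻¹ := by group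
      _ = g a * (c * ((g a)⁻¹ * w * g a)) * (g a)⁻¹ := by rw [h1]
      _ = _ := by group
  let β : BrauerPairIdx G → (Subgroup.centralizer (P : Set G) ≃* Subgroup.centralizer (P : Set G)) :=
    fun a =>
    { toFun := fun c => ⟨(g a)⁻¹ * c * g a, hconjC a c c.2⟩
      invFun := fun c => ⟨g a * c * (g a)⁻¹, hconjC' a c c.2⟩
      left_inv := fun c => Subtype.ext (by group)
      right_inv := fun c => Subtype.ext (by group)
      map_mul' := fun c c' => Subtype.ext (by push_cast; group) }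
  obtain ⟨m, hm0, hm⟩ := irr_degree_nat θ₀.2
  have hcardO : ∀ a, (O₀.image (pullIrr (α a))).card = O₀.card := fun a =>
    Finset.card_image_of_injective _ fun l l' h => Subtype.ext (funext fun v => by
      have := congrFun (congrArg Subtype.val h) ((α a).symm v)
      simpa [pullIrr_apply] using this)
  have horb := card_orbit hpair hmax hpM
  rw [← hS] at horb
  have hf0 : (Subgroup.centralizer (P : Set G)).relIndex (Subgroup.normalizer (P : Set G)) ≠ 0 := by
    rw [Subgroup.relIndex]; exact Subgroup.index_ne_zero_of_finite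
  rw [← horb] at hf0
  refine ⟨S, fun a => O₀.image (pullIrr (α a)), ε, S.card * O₀.card,
    fun a => pullIrr (β a) θ₀, m, hε, hm0, ?_, ?_, fun a _ => ?_, ?_, fun v hv y hy => ?_⟩
  · refine Nat.mul_pos (Nat.pos_of_ne_zero (left_ne_zero_of_mul hf0)) ?_
    rcases hO₀ with h | h <;> rw [h]
    · exact one_pos
    · exact Nat.pos_of_ne_zero (right_ne_zero_of_mul hf0)
  · simp only [hcardO, Finset.sum_const, smul_eq_mul]
  · rw [pullIrr_apply, map_one, hm]
  · rw [← horb]
    rcases hO₀ with h | h <;> rw [h]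
    · exact mul_dvd_mul_left _ (one_dvd _)
  · have hv' : (v : G) ≠ 1 := fun h => hv (Subtype.ext h)
    have hz := zpowers_eq_of_prime hcard v.2 hv'
    have hc : Commute (v : G) y := Subgroup.mem_centralizer_iff.1 y.2 v v.2
    have hvp : ∃ k : ℕ, (v : G) ^ p ^ k = 1 := ⟨1, by rw [pow_one]; exact pow_p_eq_one hcard v.2⟩
    have hy' : ¬ p ∣ orderOf (y : G) := by rwa [Subgroup.orderOf_coe]
    have hSeq : (pairsAt M (v : G)).filter (fun a => IsBrauerPairOf p M B a.1 a.2) = S := by
      ext a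
      simp only [hS, mem_filter, mem_univ, true_and, mem_pairsAt, hz]
      exact ⟨fun h => ⟨h.1.1, h.2⟩, fun h => ⟨⟨h.1, h.2.1.2⟩, h.2⟩⟩
    rw [← sum_secVal (M := M) (χ : G → ℂ) (v : G) ((v : G) * y),
      ← Finset.sum_subset (Finset.filter_subset (fun a => IsBrauerPairOf p M B a.1 a.2) _)
        fun a ha hno => secVal_eq_zero hpM hpair.2.1 hχ hc hvp hy' ha
          fun h => hno (mem_filter.2 ⟨ha, h⟩), hSeq, Finset.mul_sum]
    refine Finset.sum_congr rfl fun a ha => ?_
    conv_lhs => rw [← hga a ha,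
      show (v : G) * y = g a * (((α a v : P) : G) * ((β a y : Subgroup.centralizer (P : Set G)) : G)) *
        (g a)⁻¹ by
        show _ = g a * (((α a v : P) : G) * ((g a)⁻¹ * (y : G) * g a)) * (g a)⁻¹
        rw [hα]; group]
    have hav : α a v ≠ 1 := fun h => hv (by
      have := congrArg (α a).symm h
      simpa using this)
    rw [secVal_conj (isClassFunction_irr χ), secVal_pair_eq hM hcard hsq hpair hθb hθ χ hav
      (by rwa [MulEquiv.orderOf_eq (β a) y]), hval _ hav, Finset.sum_image, pullIrr_apply, mul_assoc]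
    · rfl
    · intro l _ l' _ h
      refine Subtype.ext (funext fun w => ?_)
      have := congrFun (congrArg Subtype.val h) ((α a).symm w)
      simpa [pullIrr_apply] using this

open scoped Classical in
/-- The multiplicities on a subgroup `P × H` with `H` a `p`-regular subgroup of the centralizer. -/
theorem mult_formula (hcard : Nat.card P = p) {χ : IrrCharacter G}
    {ι : Finset (BrauerPairIdx G)} {O : BrauerPairIdx G → Finset (IrrCharacter P)} {ε : ℤ}
    {θ : BrauerPairIdx G → IrrCharacter (Subgroup.centralizer (P : Set G))}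
    (hval : ∀ (v : P), v ≠ 1 → ∀ y : Subgroup.centralizer (P : Set G), ¬ p ∣ orderOf y →
      (χ : G → ℂ) ((v : G) * y) = (ε : ℂ) * ∑ a ∈ ι, (∑ l ∈ O a, (l : P → ℂ) v) *
        (θ a : Subgroup.centralizer (P : Set G) → ℂ) y)
    (H : Subgroup (Subgroup.centralizer (P : Set G))) [Fintype H]
    (hreg : ∀ h ∈ H, ¬ p ∣ orderOf h) [Fintype P] (β : IrrCharacter H) :
    ∃ (D : ℕ) (q : BrauerPairIdx G → ℕ) (A : IrrCharacter P → ℕ),
      (D : ℂ) = classInner (fun h : H => (χ : G → ℂ) ((h : Subgroup.centralizer (P : Set G)) : G))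
        (β : H → ℂ) ∧
      (∀ a, (q a : ℂ) = classInner (fun h : H => (θ a : Subgroup.centralizer (P : Set G) → ℂ) h)
        (β : H → ℂ)) ∧
      ∀ l : IrrCharacter P, (p : ℤ) * A l =
        D + ε * ∑ a ∈ ι, (q a : ℤ) * ((if l ∈ O a then (p : ℤ) else 0) - (O a).card) := by
  haveI := irrFintype P
  have hA := commute_prime hcard
  let incl : H →* G := (Subgroup.centralizer (P : Set G)).subtype.comp H.subtype
  obtain ⟨D, hD⟩ := inner_irr_right_nat (isCharacter_comp incl (isCharacter_of_irr χ.2)) β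
  choose q hq using fun a : BrauerPairIdx G =>
    inner_irr_right_nat (isCharacter_restrict H (isCharacter_of_irr (θ a).2)) β
  have hcomm : ∀ (v : P) (h : H), Commute (v : G) (incl h) := fun v h =>
    Subgroup.mem_centralizer_iff.1 (h : Subgroup.centralizer (P : Set G)).2 v v.2
  let φ : ↥P × ↥H →* G := P.subtype.noncommCoprod incl hcomm
  have hφ : ∀ v h, φ (v, h) = (v : G) * incl h := fun v h => rfl
  have hnat : ∀ l : IrrCharacter P, ∃ A : ℕ, classInner (fun x : ↥P × ↥H => (χ : G → ℂ) (φ x))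
      (fun x => (l : P → ℂ) x.1 * (β : H → ℂ) x.2) = (A : ℂ) := fun l =>
    inner_char_nat (isCharacter_comp φ (isCharacter_of_irr χ.2))
      (isCharacter_mul (isCharacter_comp (MonoidHom.fst ↥P ↥H) (isCharacter_of_irr l.2))
        (isCharacter_comp (MonoidHom.snd ↥P ↥H) (isCharacter_of_irr β.2)))
  choose A hA' using hnat
  refine ⟨D, q, A, hD.symm, fun a => (hq a).symm, fun l => ?_⟩
  have hH : (Nat.card H : ℂ) ≠ 0 := card_ne_zero H
  have hsum : ∀ f : H → ℂ, ∑ h : H, f h * conj ((β : H → ℂ) h) =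
      (Nat.card H : ℂ) * classInner f (β : H → ℂ) := fun f => by
    rw [inner_def, mul_inv_cancel_left₀ hH]
  have hlin : ∀ o : IrrCharacter P, ∑ v ∈ univ.erase (1 : P), (o : P → ℂ) v * conj ((l : P → ℂ) v) =
      (if o = l then (p : ℂ) else 0) - 1 := fun o => by
    have h := inner_irr o l
    rw [inner_def, inv_mul_eq_iff_eq_mul₀ (card_ne_zero P), hcard,
      ← Finset.add_sum_erase _ _ (mem_univ (1 : P)), irr_one_of_comm hA, irr_one_of_comm hA,
      map_one, mul_one] at h
    split_ifs at h ⊢ <;> linear_combination h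
  have h := hA' l
  rw [inner_def, inv_mul_eq_iff_eq_mul₀ (card_ne_zero _), Nat.card_prod, hcard,
    Fintype.sum_prod_type, ← Finset.add_sum_erase _ _ (mem_univ (1 : P))] at h
  simp only [hφ, OneMemClass.coe_one, one_mul, irr_one_of_comm hA, map_mul, map_one] at h
  rw [hsum, show classInner (fun h : H => (χ : G → ℂ) (incl h)) (β : H → ℂ) = (D : ℂ) from hD,
    Finset.sum_congr (s₁ := (univ : Finset P).erase 1) rfl (g := fun v => (Nat.card H : ℂ) *
      ((ε : ℂ) * ∑ a ∈ ι, (q a : ℂ) * ∑ o ∈ O a, (o : P → ℂ) v * conj ((l : P → ℂ) v)))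
      fun v hv => by
        rw [Finset.sum_congr (s₁ := (univ : Finset H)) rfl (g := fun h => ∑ a ∈ ι,
          ((ε : ℂ) * ((∑ o ∈ O a, (o : P → ℂ) v) * conj ((l : P → ℂ) v))) *
            ((θ a : Subgroup.centralizer (P : Set G) → ℂ) h * conj ((β : H → ℂ) h))) fun h _ => by
          rw [show (χ : G → ℂ) ((v : G) * incl h) = _ from
            hval v (Finset.ne_of_mem_erase hv) h (hreg h h.2), Finset.mul_sum, Finset.sum_mul]
          exact Finset.sum_congr rfl fun a _ => by ring, Finset.sum_comm, Finset.mul_sum,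
          Finset.mul_sum]
        refine Finset.sum_congr rfl fun a _ => ?_
        rw [← Finset.mul_sum, hsum, hq a, Finset.sum_mul]
        ring, ← Finset.mul_sum, ← Finset.mul_sum, Finset.sum_comm] at h
  rw [Finset.sum_congr (s₁ := ι) rfl
    (g := fun a => (q a : ℂ) * ((if l ∈ O a then (p : ℂ) else 0) - (O a).card)) fun a _ => by
      rw [← Finset.mul_sum, Finset.sum_comm]
      congr 1
      rw [Finset.sum_congr (s₁ := O a) rfl fun o _ => hlin o, Finset.sum_sub_distrib,
        Finset.sum_ite_eq', Finset.sum_const, nsmul_one]] at h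
  have h' : (p : ℂ) * (A l : ℂ) = (D : ℂ) +
      (ε : ℂ) * ∑ a ∈ ι, (q a : ℂ) * ((if l ∈ O a then (p : ℂ) else 0) - (O a).card) :=
    mul_left_cancel₀ hH (by push_cast at h; linear_combination -h)
  have e : ∀ a, (if l ∈ O a then (p : ℂ) else 0) = ((if l ∈ O a then (p : ℤ) else 0 : ℤ) : ℂ) :=
    fun a => by split_ifs <;> simp
  simp only [e] at h'
  exact_mod_cast h'

end CfsgLib.PSubTwo
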