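import Cfsg.Agent.Lib.PSubTwo.Count

/-!
# Descent to the derived group
-/

set_option autoImplicit false
set_option linter.unusedSectionVars false
set_option linter.unusedVariables false
set_option linter.style.haveILetI false

namespace CfsgLib.PSubTwo

open Cfsg Chars BlockOrth Finset
open scoped ComplexConjugate commutatorElement

universe u

variable {G : Type u} [Group G] [Fintype G] {p : ℕ} [Fact p.Prime]
  {P : Sylow p G} {ζ : IrrCharacter G} {x : G} {e : AddChar (ZMod p) ℂ}

theorem Shape.mem_commutator (H : Shape P ζ x e) (S : Setup P ζ) : x ∈ commutator G := by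
  have hp : p.Prime := Fact.out
  have h5 := S.five_lt
  obtain ⟨n, -, hn⟩ := H.inv
  have h2 : x ^ 2 ∈ commutator G := by
    have : x ^ 2 = ⁅x, n⁆ := by
      rw [commutatorElement_def, show x * n * x⁻¹ * n⁻¹ = x * (n * x⁻¹ * n⁻¹) by group, ← conj_inv,
        hn, inv_inv, pow_two]
    rw [this, commutator_def]
    exact Subgroup.commutator_mem_commutator (Subgroup.mem_top _) (Subgroup.mem_top _)
  have h3 : x ∈ Subgroup.zpowers (x ^ 2) := by
    refine mem_zpowers_pow_iff.2 ?_
    rw [H.order]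
    exact (Nat.coprime_primes Nat.prime_two hp).2 (by omega)
  exact Subgroup.zpowers_le.2 h2 h3

theorem Shape.le_commutator (H : Shape P ζ x e) (S : Setup P ζ) :
    (P : Subgroup G) ≤ commutator G := by
  rw [← H.zpowers_eq S, Subgroup.zpowers_le]
  exact H.mem_commutator S

/-- An inverter of one Sylow subgroup in a normal subgroup gives one for every other. -/
theorem inverter_transfer {K : Subgroup G} [K.Normal] {P Q : Sylow p G} {n : G} (hn : n ∈ K)
    (hinv : ∀ z ∈ (Q : Subgroup G), n * z * n⁻¹ = z⁻¹) :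
    ∃ n' ∈ K, ∀ z ∈ (P : Subgroup G), n' * z * n'⁻¹ = z⁻¹ := by
  obtain ⟨g, rfl⟩ := MulAction.exists_smul_eq G Q P
  refine ⟨g * n * g⁻¹, Subgroup.Normal.conj_mem inferInstance n hn g, fun z hz => ?_⟩
  rw [Sylow.coe_subgroup_smul] at hz
  have hz' : (MulAut.conj g)⁻¹ • z ∈ (Q : Subgroup G) :=
    Subgroup.mem_pointwise_smul_iff_inv_smul_mem.1 hz
  have hw : g⁻¹ * z * g ∈ (Q : Subgroup G) := by simpa using hz'
  calc g * n * g⁻¹ * z * (g * n * g⁻¹)⁻¹ = g * (n * (g⁻¹ * z * g) * n⁻¹) * g⁻¹ := by group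
    _ = _ := by rw [hinv _ hw]; group

/-- The restriction of `ζ` to a normal subgroup containing `P` is irreducible. -/
theorem Setup.irr_restrict (S : Setup P ζ) {x : G} {e : AddChar (ZMod p) ℂ} (H : Shape P ζ x e)
    (K : Subgroup G) [K.Normal] (hPK : (P : Subgroup G) ≤ K) :
    IsIrrCharacter K (fun h : K => (ζ : G → ℂ) h) := by
  classical
  haveI : Fintype K := Fintype.ofFinite K
  have hres : IsCharacter K (fun h : K => (ζ : G → ℂ) h) :=
    isCharacter_restrict K (isCharacter_of_irr ζ.2)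
  refine CharApps.isIrr_of_inner_self hres ?_
  obtain ⟨N, hN⟩ := inner_char_nat hres hres
  rw [hN]
  let mk := QuotientGroup.mk' K
  let Qz : Subgroup (G ⧸ K) := (Subgroup.center G).map mk
  obtain ⟨a, ha⟩ : ∃ a : ℝ, a = ∑ h : K, Complex.normSq ((ζ : G → ℂ) h) := ⟨_, rfl⟩
  have hNa : (N : ℝ) * Nat.card K = a := by
    have h1 : ((N : ℂ) * Nat.card K : ℂ) = (a : ℂ) := by
      rw [← hN, inner_def, mul_comm, ← mul_assoc,
        mul_inv_cancel₀ (Nat.cast_ne_zero.2 Nat.card_pos.ne'), one_mul, ha, Complex.ofReal_sum]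
      exact Finset.sum_congr rfl fun h _ => Complex.mul_conj _
    exact_mod_cast h1
  have hGsum : ∑ g : G, Complex.normSq ((ζ : G → ℂ) g) = Nat.card G := by
    have h1 := congrArg (fun z => (Nat.card G : ℂ) * z) (inner_irr_self ζ)
    simp only [inner_def] at h1
    rw [← mul_assoc, mul_inv_cancel₀ (Nat.cast_ne_zero.2 Nat.card_pos.ne'), one_mul, mul_one] at h1
    simp only [Complex.mul_conj] at h1
    exact_mod_cast h1
  -- the sums over the cosets meeting the centre
  have hfib : ∀ q ∈ univ.filter (fun q : G ⧸ K => q ∈ Qz),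
      ∑ g ∈ univ.filter (fun g : G => mk g = q), Complex.normSq ((ζ : G → ℂ) g) = a := by
    intro q hq
    obtain ⟨z, hz, rfl⟩ := (mem_filter.1 hq).2
    rw [ha]
    symm
    refine Finset.sum_bij (fun (h : K) _ => z * (h : G)) (fun h _ => mem_filter.2 ⟨mem_univ _, ?_⟩)
      (fun h _ h' _ e => Subtype.ext (mul_left_cancel e)) (fun g hg => ?_) fun h _ => ?_
    · rw [map_mul, show mk (h : G) = 1 from (QuotientGroup.eq_one_iff _).2 h.2, mul_one]
    · have h1 : z⁻¹ * g ∈ K := by
        rw [← QuotientGroup.eq_one_iff]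
        show mk (z⁻¹ * g) = 1
        rw [map_mul, map_inv, (mem_filter.1 hg).2, inv_mul_cancel]
      exact ⟨⟨_, h1⟩, mem_univ _, mul_inv_cancel_left z g⟩
    · rw [irr_central_mul ζ hz, Complex.normSq_mul,
        Complex.normSq_eq_norm_sq (centralScalar (ζ : G → ℂ) z), S.norm_centralScalar hz, one_pow,
        one_mul]
  obtain ⟨T, hT⟩ : ∃ T : Finset G, T = univ.filter (fun g : G => mk g ∈ Qz) := ⟨_, rfl⟩
  have hTsum : ∑ g ∈ T, Complex.normSq ((ζ : G → ℂ) g) = (Nat.card Qz : ℝ) * a := by
    rw [hT, ← Finset.sum_fiberwise_of_maps_to (g := mk)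
      (t := univ.filter (fun q : G ⧸ K => q ∈ Qz))
      (fun g hg => mem_filter.2 ⟨mem_univ _, (mem_filter.1 hg).2⟩),
      Finset.sum_congr (s₁ := univ.filter (fun q : G ⧸ K => q ∈ Qz)) rfl (g := fun _ => a)
        fun q hq => ?_, Finset.sum_const, nsmul_eq_mul, Nat.card_eq_fintype_card,
      Fintype.card_subtype]
    rw [Finset.filter_filter, Finset.filter_congr (q := fun g : G => mk g = q) fun g _ =>
      ⟨fun h => h.2, fun h => ⟨by rw [h]; exact (mem_filter.1 hq).2, h⟩⟩]
    exact hfib q hq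
  -- the quotient
  obtain ⟨n, hnsq, hnc, hnp, hn⟩ := exists_inverter H S
  have hnN : n ∈ Subgroup.normalizer ((P : Subgroup G) : Set G) := by
    rw [Subgroup.mem_normalizer_iff]
    have h1 : ∀ m : G, m * x * m⁻¹ = x⁻¹ → ∀ y ∈ (P : Subgroup G), m * y * m⁻¹ ∈ (P : Subgroup G) := by
      intro m hm y hy
      obtain ⟨i, rfl⟩ := H.exists_val S hy
      rw [← conj_pow, hm]
      exact pow_mem (inv_mem H.mem) _
    refine fun y => ⟨h1 n hn y, fun hy => ?_⟩
    have h2 : n⁻¹ * x * n⁻¹⁻¹ = x⁻¹ := by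
      have h4 : n⁻¹ * (n * x * n⁻¹) * n = n⁻¹ * x⁻¹ * n := by rw [hn]
      have h5 : x = n⁻¹ * x⁻¹ * n := by rw [← h4]; group
      rw [inv_inv]
      conv_rhs => rw [h5]
      group
    have h3 := h1 n⁻¹ h2 _ hy
    rwa [show n⁻¹ * (n * y * n⁻¹) * n⁻¹⁻¹ = y by group] at h3
  have hcover : ∀ g : G, mk g ∈ Qz ∨ mk (n⁻¹ * g) ∈ Qz := by
    intro g
    have hg : g ∈ Subgroup.normalizer ((P : Subgroup G) : Set G) ⊔ K :=
      P.normalizer_sup_eq_top' hPK ▸ Subgroup.mem_top g
    obtain ⟨y, hy, k, hk, rfl⟩ := Subgroup.mem_sup_of_normal_right.1 hg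
    have hk1 : mk k = 1 := (QuotientGroup.eq_one_iff _).2 hk
    have hC : ∀ w ∈ Subgroup.centralizer ((P : Subgroup G) : Set G), mk w ∈ Qz := fun w hw => by
      obtain ⟨i, c, hc, rfl⟩ := H.exists_eq_mul S hw
      exact ⟨c, hc, by rw [map_mul, show mk (x ^ i.val) = 1 from
        (QuotientGroup.eq_one_iff _).2 (hPK (pow_mem H.mem _)), one_mul]⟩
    rcases H.norm y hy with h | h
    · left; rw [map_mul, hk1, mul_one]; exact hC y h
    · right
      rw [← mul_assoc, map_mul, hk1, mul_one]
      refine hC _ ((H.mem_centralizer_iff S).2 ?_)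
      show n⁻¹ * y * x = x * (n⁻¹ * y)
      calc n⁻¹ * y * x = n⁻¹ * (y * x * y⁻¹) * y := by group
        _ = n⁻¹ * (n * x * n⁻¹) * y := by rw [h, hn]
        _ = _ := by group
  have hcardG : (Nat.card G : ℝ) = (Nat.card (G ⧸ K) : ℝ) * Nat.card K := by
    exact_mod_cast Subgroup.card_eq_card_quotient_mul_card_subgroup K
  have hKpos : (0 : ℝ) < Nat.card K := Nat.cast_pos.2 Nat.card_pos
  have hapos : 0 < a := by
    rw [ha]
    refine Finset.sum_pos' (fun h _ => Complex.normSq_nonneg _) ⟨1, mem_univ _, ?_⟩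
    rw [Complex.normSq_pos, OneMemClass.coe_one, S.deg]
    exact S.deg_ne_zero
  have hN0 : N ≠ 0 := fun h => by rw [h, Nat.cast_zero, zero_mul] at hNa; linarith
  by_cases hQ : mk n ∈ Qz
  · have hall : T = univ := by
      rw [hT, Finset.filter_true_of_mem]
      intro g _
      rcases hcover g with h | h
      · exact h
      · have := mul_mem hQ h
        rwa [← map_mul, mul_inv_cancel_left] at this
    have htop : Nat.card Qz = Nat.card (G ⧸ K) := by
      rw [show Qz = ⊤ from eq_top_iff.2 fun q _ => by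
        obtain ⟨g, rfl⟩ := QuotientGroup.mk'_surjective K q
        have := hall ▸ mem_univ g
        rw [hT] at this
        exact (mem_filter.1 this).2, Subgroup.card_top]
    rw [hall, hGsum, htop, hcardG, ← hNa] at hTsum
    have hQpos : (0 : ℝ) < Nat.card (G ⧸ K) := Nat.cast_pos.2 Nat.card_pos
    have h1 : (N : ℝ) = 1 := by
      refine mul_left_cancel₀ (mul_pos hQpos hKpos).ne' ?_
      linear_combination -hTsum
    exact_mod_cast congrArg (fun r : ℝ => (r : ℂ)) h1
  · have hle : Nat.card (G ⧸ K) ≤ 2 * Nat.card Qz := by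
      have hsur : Function.Surjective
          (fun t : Bool × Qz => (if t.1 then mk n else 1) * (t.2 : G ⧸ K)) := by
        intro q
        obtain ⟨g, rfl⟩ := QuotientGroup.mk'_surjective K q
        rcases hcover g with h | h
        · exact ⟨(false, ⟨_, h⟩), show 1 * mk g = mk g by rw [one_mul]⟩
        · exact ⟨(true, ⟨_, h⟩), show mk n * mk (n⁻¹ * g) = mk g by
            rw [← map_mul, mul_inv_cancel_left]⟩
      have := Nat.card_le_card_of_surjective _ hsur
      rwa [Nat.card_prod, Nat.card_eq_fintype_card (α := Bool), Fintype.card_bool] at this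
    have hlt : ∑ g ∈ T, Complex.normSq ((ζ : G → ℂ) g) <
        ∑ g : G, Complex.normSq ((ζ : G → ℂ) g) :=
      Finset.sum_lt_sum_of_subset (Finset.subset_univ _) (mem_univ n) (by simp [hT, hQ])
        (Complex.normSq_pos.2 (S.ne_zero_of_sq_central hnsq)) fun g _ _ => Complex.normSq_nonneg _
    rw [hTsum, hGsum, hcardG, ← hNa] at hlt
    have hle' : (Nat.card (G ⧸ K) : ℝ) ≤ 2 * Nat.card Qz := by exact_mod_cast hle
    have hQpos : (0 : ℝ) < Nat.card Qz := Nat.cast_pos.2 Nat.card_pos
    have hN2 : (N : ℝ) < 2 := by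
      by_contra hge
      rw [not_lt] at hge
      have h1 : (Nat.card (G ⧸ K) : ℝ) * Nat.card K ≤ (2 * Nat.card Qz) * Nat.card K :=
        mul_le_mul_of_nonneg_right hle' hKpos.le
      have h2 : (2 : ℝ) * (Nat.card Qz * Nat.card K) ≤ N * (Nat.card Qz * Nat.card K) :=
        mul_le_mul_of_nonneg_right hge (by positivity)
      linarith
    have : N = 1 := by
      have : N < 2 := by exact_mod_cast hN2
      omega
    rw [this, Nat.cast_one]

/-- The hypotheses for the derived group. -/
theorem Setup.descend (S : Setup P ζ) (H : Shape P ζ x e) :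
    ∃ (P' : Sylow p (commutator G)) (ζ' : IrrCharacter (commutator G)),
      Setup P' ζ' ∧ Odd (Nat.card (Subgroup.center (commutator G))) ∧
      (Subgroup.center (commutator G)).map (commutator G).subtype ≤ Subgroup.center G := by
  classical
  haveI : Fintype (commutator G) := Fintype.ofFinite _
  have hp : p.Prime := Fact.out
  have hPK := H.le_commutator S
  have hirr := S.irr_restrict H (commutator G) hPK
  have hsub : ((P.subtype hPK : Sylow p (commutator G)) : Subgroup (commutator G)) =
      (P : Subgroup G).subgroupOf (commutator G) := P.coe_subtype hPK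
  have S' : Setup (P.subtype hPK) ⟨_, hirr⟩ :=
    { five_lt := S.five_lt
      card_P := by
        rw [hsub, Nat.card_congr (Subgroup.subgroupOfEquivOfLe hPK).toEquiv, S.card_P]
      not_normal := fun hn => S.not_normal (by
        rw [hsub] at hn
        have h1 : commutator G ≤ Subgroup.normalizer ((P : Subgroup G) : Set G) :=
          (Subgroup.normal_subgroupOf_iff_le_normalizer hPK).1 hn
        have h2 := P.normalizer_sup_eq_top' hPK
        exact Subgroup.normalizer_eq_top_iff.1 ((sup_eq_left.2 h1).symm.trans h2))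
      faithful := fun h hh => Subtype.ext (S.faithful h hh)
      deg := S.deg }
  have hcen : (Subgroup.center (commutator G)).map (commutator G).subtype ≤ Subgroup.center G := by
    rintro _ ⟨c, hc, rfl⟩
    refine (S.norm_eq_iff (c : G)).1 ?_
    exact (S'.norm_eq_iff c).2 hc
  refine ⟨_, _, S', ?_, hcen⟩
  -- the determinant
  by_contra hev
  rw [Nat.not_odd_iff_even] at hev
  obtain ⟨c, hc⟩ := exists_prime_orderOf_dvd_card' 2 (even_iff_two_dvd.1 hev)
  obtain ⟨m, ρ, hρ, hζ⟩ := ζ.2
  have hm : m = p - 2 := by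
    have h2 := S.deg
    rw [← hζ, Representation.char_one, Module.finrank_pi, Fintype.card_fin] at h2
    exact_mod_cast h2
  have hcG : ((c : commutator G) : G) ∈ Subgroup.center G := hcen ⟨_, c.2, rfl⟩
  haveI := hρ
  obtain ⟨w, hw⟩ := exists_scalar_of_mem_center ρ _ hcG
  let δ : G →* ℂˣ := (LinearMap.det.comp ρ).toHomUnits
  have hdet : δ ((c : commutator G) : G) = 1 :=
    Abelianization.commutator_subset_ker δ (c : commutator G).2
  have hwd : w ^ m = 1 := by
    have h1 : LinearMap.det (ρ ((c : commutator G) : G)) = 1 := congrArg Units.val hdet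
    rwa [hw, LinearMap.det_smul, LinearMap.det_id, mul_one, Module.finrank_pi, Fintype.card_fin] at h1
  have hcm : ((c : commutator G) : G) ^ m = 1 := by
    refine S.faithful _ ?_
    rw [← hζ, Representation.character, Representation.character, map_pow, map_one, hw,
      show (w • (LinearMap.id : (Fin m → ℂ) →ₗ[ℂ] (Fin m → ℂ))) = w • 1 from rfl, smul_pow,
      one_pow, hwd, one_smul]
  have h2 : orderOf ((c : commutator G) : G) ∣ m := orderOf_dvd_of_pow_eq_one hcm
  rw [Subgroup.orderOf_coe, Subgroup.orderOf_coe, hc, hm] at h2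
  have hodd := hp.odd_of_ne_two (by have := S.five_lt; omega)
  obtain ⟨r, hr⟩ := hodd
  have := S.five_lt
  omega

end CfsgLib.PSubTwo
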