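import Cfsg.Agent.Lib.PSubTwo.Shape
import Cfsg.Agent.Lib.CharApps.AbelianSylow
import Mathlib.Analysis.Fourier.FiniteAbelian.Orthogonality

/-!
# A faithful character of degree `p - 2`: the setup and the singular sums
-/

set_option autoImplicit false
set_option linter.unusedSectionVars false
set_option linter.style.haveILetI false

namespace CfsgLib.PSubTwo

open Cfsg Chars Blocks BlockOrth CfsgLib.Modular Finset
open scoped ComplexConjugate

universe u

variable {G : Type u} [Group G] [Fintype G] {p : ℕ} [Fact p.Prime]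

/-- The hypotheses. -/
structure Setup (P : Sylow p G) (ζ : IrrCharacter G) : Prop where
  five_lt : 5 < p
  card_P : Nat.card (P : Subgroup G) = p
  not_normal : ¬ (P : Subgroup G).Normal
  faithful : ∀ g, (ζ : G → ℂ) g = (ζ : G → ℂ) 1 → g = 1
  deg : (ζ : G → ℂ) 1 = ((p - 2 : ℕ) : ℂ)

/-- The local data. -/
structure Shape (P : Sylow p G) (ζ : IrrCharacter G) (x : G) (e : AddChar (ZMod p) ℂ) : Prop where
  mem : x ∈ (P : Subgroup G)
  order : orderOf x = p
  ne_one : e ≠ 1
  val : ∀ a : ZMod p, a ≠ 0 → ∀ c ∈ Subgroup.center G,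
    (ζ : G → ℂ) (x ^ a.val * c) = -(e a + e (-a)) * centralScalar (ζ : G → ℂ) c
  cent : ∀ y ∈ Subgroup.centralizer ((P : Subgroup G) : Set G), ¬ p ∣ orderOf y →
    y ∈ Subgroup.center G
  inv : ∃ n ∈ Subgroup.normalizer ((P : Subgroup G) : Set G), n * x * n⁻¹ = x⁻¹
  norm : ∀ g ∈ Subgroup.normalizer ((P : Subgroup G) : Set G),
    g ∈ Subgroup.centralizer ((P : Subgroup G) : Set G) ∨ g * x * g⁻¹ = x⁻¹

variable {P : Sylow p G} {ζ : IrrCharacter G}

theorem Setup.not_sq (S : Setup P ζ) : ¬ p ^ 2 ∣ Nat.card G := by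
  intro h
  have h1 := P.card_eq_multiplicity
  rw [S.card_P] at h1
  have h2 := ((Fact.out : p.Prime).pow_dvd_iff_le_factorization Nat.card_pos.ne').1 h
  have h3 : (Nat.card G).factorization p = 1 :=
    (Nat.pow_right_injective (Fact.out : p.Prime).two_le
      (show p ^ (Nat.card G).factorization p = p ^ 1 by rw [pow_one, ← h1]))
  omega

theorem Setup.degree (S : Setup P ζ) : charDegree (ζ : G → ℂ) = p - 2 :=
  Nat.cast_injective (R := ℂ) (by rw [← CharApps.deg_eq, S.deg])

theorem Setup.deg_re (S : Setup P ζ) : ((ζ : G → ℂ) 1).re = ((p - 2 : ℕ) : ℝ) := by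
  rw [S.deg, Complex.natCast_re]

/-- Only the central elements have values of absolute value `p - 2`. -/
theorem Setup.norm_eq_iff (S : Setup P ζ) (g : G) :
    ‖(ζ : G → ℂ) g‖ = ((p - 2 : ℕ) : ℝ) ↔ g ∈ Subgroup.center G := by
  obtain ⟨n, ρ, hρ, h⟩ := ζ.2
  have hn : Module.finrank ℂ (Fin n → ℂ) = p - 2 := by
    have h1 := S.deg
    rw [← h, Representation.char_one] at h1
    exact_mod_cast h1
  rw [← h, ← hn, norm_character_eq_iff]
  have hker : ∀ k, ρ k = LinearMap.id → k = 1 := fun k hk => S.faithful k (by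
    rw [← h, Representation.character, Representation.character, hk, map_one]
    rfl)
  constructor
  · rintro ⟨w, hw⟩
    rw [Subgroup.mem_center_iff]
    intro a
    have h1 : ρ (a * g * (g * a)⁻¹) = LinearMap.id := by
      rw [map_mul, map_mul, hw]
      have : ρ (g * a) = ρ g * ρ a := map_mul ρ g a
      have h2 : ρ a * (w • (LinearMap.id : (Fin n → ℂ) →ₗ[ℂ] (Fin n → ℂ))) = ρ (g * a) := by
        rw [this, hw, mul_smul_comm, smul_mul_assoc]
        rfl
      rw [h2, ← map_mul, mul_inv_cancel, map_one]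
      rfl
    exact mul_inv_eq_one.1 (hker _ h1)
  · intro hg
    haveI := hρ
    exact exists_scalar_of_mem_center ρ g hg

theorem Setup.value_central (S : Setup P ζ) {c : G} (hc : c ∈ Subgroup.center G) :
    (ζ : G → ℂ) c = ((p - 2 : ℕ) : ℂ) * centralScalar (ζ : G → ℂ) c := by
  have h := irr_central_mul ζ hc 1
  rw [mul_one] at h
  rw [h, S.deg, mul_comm]

theorem Setup.mul_central (S : Setup P ζ) {c : G} (hc : c ∈ Subgroup.center G) (g : G) :
    (ζ : G → ℂ) (g * c) = centralScalar (ζ : G → ℂ) c * (ζ : G → ℂ) g := by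
  rw [show g * c = c * g from Subgroup.mem_center_iff.1 hc g, irr_central_mul ζ hc]

theorem Setup.norm_centralScalar (S : Setup P ζ) {c : G} (hc : c ∈ Subgroup.center G) :
    ‖centralScalar (ζ : G → ℂ) c‖ = 1 :=
  Complex.norm_eq_one_of_pow_eq_one (centralScalar_pow_eq_one ζ hc (pow_orderOf_eq_one c))
    (orderOf_pos c).ne'

theorem Setup.centralScalar_mul_conj (S : Setup P ζ) {c : G} (hc : c ∈ Subgroup.center G) :
    centralScalar (ζ : G → ℂ) c * conj (centralScalar (ζ : G → ℂ) c) = 1 := by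
  rw [Complex.mul_conj, Complex.normSq_eq_norm_sq, S.norm_centralScalar hc, one_pow,
    Complex.ofReal_one]

theorem Setup.not_central (S : Setup P ζ) {u : G} (hu : u ∈ (P : Subgroup G)) (hu1 : u ≠ 1) :
    u ∉ Subgroup.center G := fun hc => S.not_normal (by
  rw [← Blocks.zpowers_eq_of_prime S.card_P hu hu1]
  exact ⟨fun a ha g => by
    rw [Subgroup.mem_center_iff.1 ((Subgroup.zpowers_le.2 hc) ha) g, mul_inv_cancel_right]
    exact ha⟩)

theorem Setup.exists_data (S : Setup P ζ) : ∃ (Q : Sylow p G) (x : G) (e : AddChar (ZMod p) ℂ),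
    Setup Q ζ ∧ Shape Q ζ x e := by
  classical
  have hp : p.Prime := Fact.out
  have h5 := S.five_lt
  haveI : NeZero p := ⟨hp.ne_zero⟩
  obtain ⟨M, hM⟩ := CharApps.exists_pModular p
  haveI := hM.2.1.isPrime
  have hfac : (Nat.card G).factorization p = 1 := by
    have h1 := P.card_eq_multiplicity
    rw [S.card_P] at h1
    exact Nat.pow_right_injective hp.two_le (show p ^ (Nat.card G).factorization p = p ^ 1 by
      rw [pow_one, ← h1])
  obtain ⟨D, B, b, hD, hζB, hpair⟩ := exists_pair_sylow hM.2.2 hfac ζ (by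
    rw [S.degree]; exact Nat.not_dvd_of_pos_of_lt (by omega) (by omega))
  obtain ⟨Q, rfl⟩ : ∃ Q : Sylow p G, (Q : Subgroup G) = D := by
    obtain ⟨Q, hQ⟩ := hpair.1.1.exists_le_sylow
    refine ⟨Q, (Subgroup.eq_of_le_of_card_ge hQ ?_).symm⟩
    rw [hD, Q.card_eq_multiplicity, hfac, pow_one]
  have SQ : Setup Q ζ := { S with
    card_P := hD
    not_normal := fun h => S.not_normal (by
      haveI : Subsingleton (Sylow p G) := (Q.unique_of_normal h).instSubsingleton
      rw [Subsingleton.elim P Q]; exact h) }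
  haveI : Fintype (Subgroup.centralizer ((Q : Subgroup G) : Set G)) := Fintype.ofFinite _
  obtain ⟨l, hl, hval, hreg, ⟨n, hnN, hn⟩, hnorm⟩ := exists_shape (by omega) hM hD SQ.not_sq
    hpair hζB SQ.degree fun u hu hu1 h => SQ.not_central hu hu1 ((SQ.norm_eq_iff u).1 h)
  have hA := commute_prime (P := (Q : Subgroup G)) hD
  haveI : Nontrivial (Q : Subgroup G) :=
    Finite.one_lt_card_iff_nontrivial.1 (by rw [hD]; exact hp.one_lt)
  obtain ⟨u, hu⟩ := exists_ne (1 : (Q : Subgroup G))
  have hou : orderOf u = p := by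
    refine orderOf_eq_prime ?_ hu
    exact (congrArg (u ^ ·) hD.symm).trans pow_card_eq_one'
  have hpow : ∀ k : ℕ, (l : ↥(Q : Subgroup G) → ℂ) (u ^ k) = (l : ↥(Q : Subgroup G) → ℂ) u ^ k := by
    intro k
    induction k with
    | zero => rw [pow_zero, pow_zero, irr_one_of_comm hA]
    | succ k ih => rw [pow_succ, pow_succ, irr_mul_of_comm hA, ih]
  have hζp : (l : ↥(Q : Subgroup G) → ℂ) u ^ p = 1 := by
    have := irr_pow_card hA l u
    rwa [hD] at this
  refine ⟨Q, u, AddChar.zmodChar p hζp, SQ, u.2, by rw [Subgroup.orderOf_coe, hou], ?_, ?_, ?_,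
    ⟨n, hnN, hn u u.2⟩, fun g hg => (hnorm g hg).imp id fun h => h u u.2⟩
  · intro h
    refine hu (irr_injective_of_prime hD hl (v := u) (w := 1) ?_)
    have h1 := congrFun (congrArg DFunLike.coe h) (1 : ZMod p)
    rw [AddChar.zmodChar_apply, ZMod.val_one, pow_one] at h1
    rw [irr_one_of_comm hA]
    simpa using h1
  · intro a ha c hc
    have hne : u ^ a.val ≠ 1 := fun h => by
      have h1 := orderOf_dvd_of_pow_eq_one h
      rw [hou] at h1
      exact ha ((ZMod.val_eq_zero a).1 (Nat.eq_zero_of_dvd_of_lt h1 (ZMod.val_lt a)))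
    have hinv : conj ((l : ↥(Q : Subgroup G) → ℂ) (u ^ a.val)) =
        AddChar.zmodChar p hζp (-a) := by
      rw [← irr_inv, AddChar.zmodChar_apply, ← hpow]
      refine congrArg _ (inv_eq_of_mul_eq_one_right ?_)
      rw [← pow_add]
      refine orderOf_dvd_iff_pow_eq_one.1 ?_
      rw [hou, ← ZMod.natCast_eq_zero_iff, Nat.cast_add, ZMod.natCast_zmod_val,
        ZMod.natCast_zmod_val, add_neg_cancel]
    have h := hval (u ^ a.val) hne
    rw [SubmonoidClass.coe_pow, hinv, hpow, ← AddChar.zmodChar_apply] at h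
    rw [SQ.mul_central hc, h, mul_comm]
  · exact fun y hy hyp => (SQ.norm_eq_iff y).1 (hreg y hy hyp)

end CfsgLib.PSubTwo
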