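import Cfsg.Agent.Lib.PSubTwo.Local

/-!
# A character of degree `p - 2` on the normalizer of a Sylow subgroup of order `p`
-/

set_option autoImplicit false
set_option linter.unusedSectionVars false
set_option linter.style.haveILetI false

namespace CfsgLib.PSubTwo

open Cfsg Chars Blocks BlockOrth CfsgLib.Modular Finset
open scoped ComplexConjugate

universe u

variable {G : Type u} [Group G] [Fintype G] {M : Ideal AlgInt} [M.IsPrime] {p : ℕ} [Fact p.Prime]
  {P : Subgroup G} {B : Set (IrrCharacter G)}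
  [Fintype (Subgroup.centralizer (P : Set G))]
  {b : Set (IrrCharacter (Subgroup.centralizer (P : Set G)))}

/-- The order of the automizer divides `p - 1`. -/
theorem relIndex_normalizer_dvd (hcard : Nat.card P = p) :
    (Subgroup.centralizer (P : Set G)).relIndex (Subgroup.normalizer (P : Set G)) ∣ p - 1 := by
  haveI : IsCyclic P := isCyclic_of_prime_card hcard
  have h : Nat.card P.normalizerMonoidHom.range =
      (Subgroup.centralizer (P : Set G)).relIndex (Subgroup.normalizer (P : Set G)) := by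
    rw [← Subgroup.index_ker, Subgroup.normalizerMonoidHom_ker]
    rfl
  rw [← h]
  have h2 := Subgroup.card_subgroup_dvd_card P.normalizerMonoidHom.range
  rwa [IsCyclic.card_mulAut, hcard, Nat.totient_prime Fact.out] at h2

theorem norm_irr_comm {A : Type*} [Group A] [Finite A] (hA : ∀ a b : A, a * b = b * a)
    (l : IrrCharacter A) (x : A) : ‖(l : A → ℂ) x‖ = 1 :=
  Complex.norm_eq_one_of_pow_eq_one (irr_pow_card hA l x) Nat.card_pos.ne'

theorem irr_injective_of_prime (hcard : Nat.card P = p) {l : IrrCharacter P}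
    (hl : l ≠ principal P) {v w : P} (h : (l : P → ℂ) v = (l : P → ℂ) w) : v = w := by
  have hA := commute_prime hcard
  haveI : Fintype P := Fintype.ofFinite P
  have h1 : (l : P → ℂ) (v * w⁻¹) = 1 := by
    rw [irr_mul_of_comm hA, h, ← irr_mul_of_comm hA, mul_inv_cancel, irr_one_of_comm hA]
  by_contra hne
  have hx : v * w⁻¹ ≠ 1 := fun e => hne (mul_inv_eq_one.1 e)
  refine hl (Subtype.ext (funext fun x => ?_))
  obtain ⟨n, rfl⟩ := (isOfFinOrder_of_finite (v * w⁻¹)).mem_powers_iff_mem_zpowers.2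
    (mem_zpowers_of_prime_card hcard hx (g' := x))
  have hpow : ∀ k : ℕ, (l : P → ℂ) ((v * w⁻¹) ^ k) = 1 := by
    intro k
    induction k with
    | zero => rw [pow_zero, irr_one_of_comm hA]
    | succ k ih => rw [pow_succ, irr_mul_of_comm hA, ih, h1, one_mul]
  rw [hpow, principal_apply]

open scoped Classical in
/-- **The local shape.** -/
theorem exists_shape (hp5 : 5 ≤ p) (hM : IsPModular p M) (hcard : Nat.card P = p)
    (hsq : ¬ p ^ 2 ∣ Nat.card G) (hpair : IsBrauerPairOf p M B P b) {χ : IrrCharacter G}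
    (hχ : χ ∈ B) (hdeg : charDegree (χ : G → ℂ) = p - 2)
    (hns : ∀ u ∈ P, u ≠ 1 → ‖(χ : G → ℂ) u‖ ≠ ((p - 2 : ℕ) : ℝ)) :
    ∃ l : IrrCharacter P, l ≠ principal P ∧
      (∀ u : P, u ≠ 1 → (χ : G → ℂ) u = -((l : P → ℂ) u + conj ((l : P → ℂ) u))) ∧
      (∀ y ∈ Subgroup.centralizer (P : Set G), ¬ p ∣ orderOf y →
        ‖(χ : G → ℂ) y‖ = ((p - 2 : ℕ) : ℝ)) ∧
      (∃ n ∈ Subgroup.normalizer (P : Set G), ∀ u ∈ P, n * u * n⁻¹ = u⁻¹) ∧
      ∀ g ∈ Subgroup.normalizer (P : Set G), g ∈ Subgroup.centralizer (P : Set G) ∨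
        ∀ u ∈ P, g * u * g⁻¹ = u⁻¹ := by
  have hp : p.Prime := Fact.out
  haveI : Fintype P := Fintype.ofFinite P
  haveI := irrFintype P
  have hA := commute_prime hcard
  obtain ⟨ι, O, ε, r, θ, m, hε, hm0, hr0, hr, hθ, hrf, hval⟩ :=
    char_apply_mul hM hcard hsq hpair hχ
  have hrp : r ∣ p - 1 := hrf.trans (relIndex_normalizer_dvd hcard)
  have hrle : r ≤ p - 1 := Nat.le_of_dvd (by omega) hrp
  have hd1 : (χ : G → ℂ) 1 = ((p - 2 : ℕ) : ℂ) := by rw [CharApps.deg_eq, hdeg]
  have hcardI : Fintype.card (IrrCharacter P) = p := by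
    rw [← Nat.card_eq_fintype_card, card_irrCharacter_of_comm hA, hcard]
  obtain ⟨cnt, hcnt⟩ : ∃ cnt : IrrCharacter P → ℕ, ∀ l, cnt l = (ι.filter fun a => l ∈ O a).card :=
    ⟨_, fun l => rfl⟩
  have hcntsum : ∑ l, cnt l = r := by
    rw [← hr]
    simp only [hcnt, Finset.card_filter]
    rw [Finset.sum_comm]
    exact Finset.sum_congr rfl fun a _ => by rw [Finset.sum_boole, Nat.cast_id]; congr 1; ext; simp
  obtain ⟨l₀, hl₀⟩ : ∃ l₀, cnt l₀ = 0 := by
    by_contra! h
    have := Finset.sum_le_sum (s := univ) fun l _ => Nat.one_le_iff_ne_zero.2 (h l)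
    rw [hcntsum, Finset.sum_const, Finset.card_univ, hcardI, smul_eq_mul, mul_one] at this
    omega
  haveI : Nontrivial P := Finite.one_lt_card_iff_nontrivial.1 (hcard ▸ hp.one_lt)
  obtain ⟨u₀, hu₀⟩ := exists_ne (1 : P)
  have hns' : ∀ v : P, v ≠ 1 → ‖(χ : G → ℂ) v‖ ≠ ((p - 2 : ℕ) : ℝ) := fun v hv =>
    hns v v.2 fun h => hv (Subtype.ext h)
  -- values on `P`
  have hvalP : ∀ v : P, v ≠ 1 →
      (χ : G → ℂ) v = (ε : ℂ) * (m : ℂ) * ∑ l, (cnt l : ℂ) * (l : P → ℂ) v := by
    intro v hv
    have h := hval v hv 1 (by simp [hp.ne_one])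
    rw [OneMemClass.coe_one, mul_one] at h
    rw [h, mul_assoc]
    congr 1
    rw [Finset.sum_congr (s₁ := ι) rfl (g := fun a => (m : ℂ) * ∑ l ∈ O a, (l : P → ℂ) v)
      fun a ha => by rw [hθ a ha, mul_comm], ← Finset.mul_sum]
    congr 1
    simp only [hcnt, Finset.card_filter, Nat.cast_sum, Finset.sum_mul]
    rw [Finset.sum_comm]
    refine Finset.sum_congr rfl fun a _ => ?_
    simp only [Nat.cast_ite, Nat.cast_one, Nat.cast_zero, ite_mul, one_mul, zero_mul,
      Finset.sum_ite_mem, Finset.univ_inter]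
  -- the multiplicities on `P × H`
  have hmult : ∀ (H : Subgroup (Subgroup.centralizer (P : Set G))) [Fintype H]
      [Fintype (IrrCharacter H)],
      (∀ h ∈ H, ¬ p ∣ orderOf h) → (∀ a b : H, a * b = b * a) →
      ∃ (D : IrrCharacter H → ℕ) (q : IrrCharacter H → BrauerPairIdx G → ℕ)
        (A : IrrCharacter H → IrrCharacter P → ℕ),
        (∀ β, (D β : ℂ) = classInner
          (fun h : H => (χ : G → ℂ) ((h : Subgroup.centralizer (P : Set G)) : G)) (β : H → ℂ)) ∧
        (∀ β a, (q β a : ℂ) = classInner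
          (fun h : H => (θ a : Subgroup.centralizer (P : Set G) → ℂ) h) (β : H → ℂ)) ∧
        (∀ β l, (p : ℤ) * A β l =
          D β + ε * ∑ a ∈ ι, (q β a : ℤ) * ((if l ∈ O a then (p : ℤ) else 0) - (O a).card)) ∧
        ∑ β, D β = p - 2 ∧ ∀ a ∈ ι, ∑ β, q β a = m := by
    intro H _ _ hreg hH
    choose D q A hD hq hA' using fun β : IrrCharacter H => mult_formula hcard hval H hreg β
    refine ⟨D, q, A, hD, hq, hA', ?_, fun a ha => ?_⟩
    · have h := sum_inner_comm hH (fun h : H => (χ : G → ℂ) ((h : Subgroup.centralizer (P : Set G)) : G))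
      simp only [← hD, OneMemClass.coe_one, hd1] at h
      exact_mod_cast h
    · have h := sum_inner_comm hH (fun h : H => (θ a : Subgroup.centralizer (P : Set G) → ℂ) h)
      simp only [← hq, OneMemClass.coe_one, hθ a ha] at h
      exact_mod_cast h
  -- the multiplicities on `P`
  obtain ⟨A₁, hA₁⟩ : ∃ A₁ : IrrCharacter P → ℕ, ∀ l,
      (p : ℤ) * A₁ l = ((p - 2 : ℕ) : ℤ) + ε * (m : ℤ) * ((p : ℤ) * cnt l - r) := by
    haveI : Fintype (⊥ : Subgroup (Subgroup.centralizer (P : Set G))) := Fintype.ofFinite _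
    haveI := irrFintype (⊥ : Subgroup (Subgroup.centralizer (P : Set G)))
    obtain ⟨D, q, A, -, -, hf, hD, hq⟩ := hmult ⊥
      (fun h hh => by rw [Subgroup.mem_bot.1 hh]; simp [hp.ne_one])
      (fun a b => Subsingleton.elim _ _)
    refine ⟨fun l => ∑ β, A β l, fun l => ?_⟩
    rw [Nat.cast_sum, Finset.mul_sum, Finset.sum_congr rfl fun β _ => hf β l, Finset.sum_add_distrib,
      ← Finset.mul_sum, Finset.sum_comm, ← Nat.cast_sum, hD, mul_assoc]
    congr 2
    rw [Finset.sum_congr (s₁ := ι) rfl (g := fun a => (m : ℤ) *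
      ((if l ∈ O a then (p : ℤ) else 0) - (O a).card)) fun a ha => by
        rw [← Finset.sum_mul, ← Nat.cast_sum, hq a ha], ← Finset.mul_sum, Finset.sum_sub_distrib,
      ← Nat.cast_sum, hr, hcnt, Finset.sum_ite, Finset.sum_const_zero, Finset.sum_const, add_zero,
      nsmul_eq_mul, mul_comm (p : ℤ)]
  -- the sign
  have hA0 := hA₁ l₀
  rw [hl₀] at hA0
  obtain rfl : ε = -1 := by
    refine hε.resolve_left fun hε1 => ?_
    subst hε1
    have h1 : A₁ l₀ = 0 := by
      by_contra h0
      have : (p : ℤ) * 1 ≤ (p : ℤ) * A₁ l₀ := mul_le_mul_of_nonneg_left (by omega) (by positivity)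
      have h2 : (0 : ℤ) ≤ (m : ℤ) * r := by positivity
      push_cast at hA0
      have : ((p - 2 : ℕ) : ℤ) = (p : ℤ) - 2 := by omega
      linarith
    rw [h1] at hA0
    have hmr : m * r = p - 2 := by
      push_cast at hA0
      have : ((m * r : ℕ) : ℤ) = ((p - 2 : ℕ) : ℤ) := by push_cast; linarith
      exact_mod_cast this
    have hr1 : r = 1 := by
      have h2 : r ∣ p - 2 := hmr ▸ dvd_mul_left r m
      have h3 := Nat.dvd_sub hrp h2
      rwa [show p - 1 - (p - 2) = 1 by omega, Nat.dvd_one] at h3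
    rw [hr1, mul_one] at hmr
    obtain ⟨l₁, hl₁⟩ : ∃ l₁, ∀ l, cnt l = if l = l₁ then 1 else 0 := by
      obtain ⟨l₁, hl₁⟩ : ∃ l₁, cnt l₁ ≠ 0 := by
        by_contra! h
        simp [h, hr1] at hcntsum
      refine ⟨l₁, fun l => ?_⟩
      have h2 := Finset.single_le_sum (f := cnt) (fun i _ => Nat.zero_le _) (mem_univ l₁)
      split_ifs with hll
      · subst hll; omega
      · have h3 := Finset.sum_le_sum_of_subset (f := cnt) (Finset.subset_univ {l, l₁})
        rw [Finset.sum_pair hll] at h3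
        omega
    refine hns' u₀ hu₀ ?_
    rw [hvalP u₀ hu₀]
    simp only [hl₁, Nat.cast_ite, Nat.cast_one, Nat.cast_zero, ite_mul, one_mul, zero_mul,
      Finset.sum_ite_eq', Finset.mem_univ, if_true, Int.cast_one]
    rw [norm_mul, norm_irr_comm hA, mul_one, Complex.norm_natCast, hmr]
  have hA₀ : ∀ l, (A₁ l : ℤ) = A₁ l₀ - (m : ℤ) * cnt l := fun l => by
    refine mul_left_cancel₀ (show (p : ℤ) ≠ 0 by exact_mod_cast hp.ne_zero) ?_
    rw [hA₁ l]; push_cast at hA0 ⊢; linear_combination -hA0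
  have hA0' : p * A₁ l₀ = (p - 2) + m * r := by
    have : ((p * A₁ l₀ : ℕ) : ℤ) = ((p - 2 + m * r : ℕ) : ℤ) := by
      push_cast at hA0 ⊢; linarith
    exact_mod_cast this
  have hge : ∀ l, m * cnt l ≤ A₁ l₀ := fun l => by
    have h := hA₀ l
    have : (0 : ℤ) ≤ A₁ l := Int.natCast_nonneg _
    have : ((m * cnt l : ℕ) : ℤ) ≤ (A₁ l₀ : ℤ) := by push_cast; linarith
    exact_mod_cast this
  obtain ⟨l₁, hl₁⟩ : ∃ l₁, cnt l₁ ≠ 0 := by
    by_contra! h
    simp [h] at hcntsum
    omega
  have hmA : m ≤ A₁ l₀ := (Nat.le_mul_of_pos_right m (Nat.pos_of_ne_zero hl₁)).trans (hge l₁)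
  have hm1 : m = 1 := by
    by_contra hm1
    have hAm : A₁ l₀ = m := by
      refine le_antisymm ?_ hmA
      by_contra! h
      have h1 : p * (m + 1) ≤ p * A₁ l₀ := Nat.mul_le_mul_left p h
      have h2 : m * r ≤ m * (p - 1) := Nat.mul_le_mul_left m hrle
      have h3 : m * (p - 1) + m = p * m := by
        rw [← Nat.mul_succ, Nat.succ_eq_add_one, Nat.sub_add_cancel hp.one_le, mul_comm]
      rw [mul_add, mul_one] at h1
      omega
    rw [hAm] at hA0'
    obtain ⟨j, hj⟩ := hrp
    rcases Nat.lt_or_ge j 2 with hj2 | hj2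
    · obtain rfl : j = 1 := by
        rcases Nat.eq_zero_or_pos j with h | h
        · subst h; omega
        · omega
      rw [mul_one] at hj
      have hmd : m = p - 2 := by
        rw [← hj] at hA0'
        have h3 : m * (p - 1) + m = p * m := by
          rw [← Nat.mul_succ, Nat.succ_eq_add_one, Nat.sub_add_cancel hp.one_le, mul_comm]
        omega
      have hcnt1 : ∀ l, cnt l ≤ 1 := fun l => by
        by_contra! h
        have h2 := hge l
        rw [hAm] at h2
        have := Nat.mul_le_mul_left m h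
        omega
      have hcnteq : ∀ l, l ≠ l₀ → cnt l = 1 := fun l hl => by
        by_contra hne
        have h0 : cnt l = 0 := by have := hcnt1 l; omega
        have h1 : ∑ k, cnt k = ∑ k ∈ (univ.erase l₀).erase l, cnt k := by
          rw [← Finset.sum_erase (univ : Finset (IrrCharacter P)) hl₀,
            ← Finset.sum_erase (univ.erase l₀) h0]
        have h2 := Finset.sum_le_card_nsmul ((univ.erase l₀).erase l) cnt 1 fun k _ => hcnt1 k
        rw [← h1, hcntsum, Finset.card_erase_of_mem (Finset.mem_erase.2 ⟨hl, mem_univ _⟩),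
          Finset.card_erase_of_mem (mem_univ _), Finset.card_univ, hcardI, smul_eq_mul, mul_one] at h2
        omega
      refine hns' u₀ hu₀ ?_
      rw [hvalP u₀ hu₀, ← Finset.add_sum_erase _ _ (mem_univ l₀), hl₀, Nat.cast_zero, zero_mul,
        zero_add, Finset.sum_congr (s₁ := univ.erase l₀) rfl (g := fun l => (l : P → ℂ) u₀) fun l hl => by
          rw [hcnteq l (Finset.ne_of_mem_erase hl), Nat.cast_one, one_mul]]
      have hsum := sum_degree_mul (G := P) u₀
      simp only [irr_one_of_comm hA, one_mul, if_neg hu₀] at hsum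
      rw [← Finset.add_sum_erase _ _ (mem_univ l₀)] at hsum
      rw [eq_neg_of_add_eq_zero_right hsum]
      simp [hmd, norm_irr_comm hA]
    · have h2 : 2 * r ≤ p - 1 := by
        rw [hj, mul_comm 2 r]
        exact Nat.mul_le_mul_left r hj2
      have h3 : 2 * (m * r) ≤ m * (p - 1) := by
        rw [← mul_assoc, mul_comm 2 m, mul_assoc]
        exact Nat.mul_le_mul_left m h2
      have h4 : m * (p - 1) + m = p * m := by
        rw [← Nat.mul_succ, Nat.succ_eq_add_one, Nat.sub_add_cancel hp.one_le, mul_comm]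
      have h5 : p * 2 ≤ p * m := Nat.mul_le_mul_left p (by omega)
      omega
  subst hm1
  rw [one_mul] at hA0'
  have hA0one : A₁ l₀ = 1 := by
    have h1 : p * A₁ l₀ < p * 2 := by omega
    have := Nat.lt_of_mul_lt_mul_left h1
    omega
  have hr2 : r = 2 := by rw [hA0one, mul_one] at hA0'; omega
  have hcnt1 : ∀ l, cnt l ≤ 1 := fun l => by have := hge l; omega
  obtain ⟨U, hU⟩ : ∃ U : Finset (IrrCharacter P), U = univ.filter fun l => cnt l = 1 := ⟨_, rfl⟩
  have hUcard : U.card = 2 := by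
    rw [← hr2, ← hcntsum, hU, Finset.card_filter]
    exact Finset.sum_congr rfl fun l _ => by have := hcnt1 l; split_ifs <;> omega
  have hvalU : ∀ v : P, v ≠ 1 → (χ : G → ℂ) v = -∑ l ∈ U, (l : P → ℂ) v := fun v hv => by
    rw [hvalP v hv, hU, Finset.sum_filter]
    simp only [Int.cast_neg, Int.cast_one, Nat.cast_one, mul_one, neg_mul, one_mul, neg_inj]
    refine Finset.sum_congr rfl fun l _ => ?_
    have := hcnt1 l
    split_ifs with h
    · simp [h]
    · simp [show cnt l = 0 by omega]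
  -- regular elements of the centralizer
  have hreg : ∀ y ∈ Subgroup.centralizer (P : Set G), ¬ p ∣ orderOf y →
      ‖(χ : G → ℂ) y‖ = ((p - 2 : ℕ) : ℝ) := by
    intro y hy hyp
    set H := Subgroup.zpowers (⟨y, hy⟩ : Subgroup.centralizer (P : Set G)) with hH
    haveI : Fintype H := Fintype.ofFinite H
    haveI := irrFintype H
    have hHc : ∀ a b : H, a * b = b * a := fun a b => by
      obtain ⟨i, hi⟩ := a.2
      obtain ⟨j, hj⟩ := b.2
      exact Subtype.ext (by
        push_cast
        rw [← hi, ← hj]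
        exact (((Commute.refl _).zpow_right j).zpow_left i).eq)
    obtain ⟨D, q, A, hD, -, hf, hDs, hqs⟩ := hmult H (fun h hh hd => hyp (by
      exact hd.trans ((orderOf_dvd_of_mem_zpowers hh).trans
        (dvd_of_eq (Subgroup.orderOf_coe (⟨y, hy⟩ : Subgroup.centralizer (P : Set G))).symm)))) hHc
    have hnone : ∀ a ∈ ι, l₀ ∉ O a := fun a ha hmem => by
      rw [hcnt, Finset.card_eq_zero] at hl₀
      exact Finset.notMem_empty a (hl₀ ▸ mem_filter.2 ⟨ha, hmem⟩)
    have hsub : ∀ β l, (A β l : ℤ) = A β l₀ - ∑ a ∈ ι, (q β a : ℤ) * (if l ∈ O a then 1 else 0) := by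
      intro β l
      refine mul_left_cancel₀ (show (p : ℤ) ≠ 0 by exact_mod_cast hp.ne_zero) ?_
      rw [mul_sub, hf β l, hf β l₀, neg_one_mul, neg_one_mul, Finset.mul_sum, ← sub_eq_zero]
      rw [show ∀ a b c d : ℤ, a + -b - (a + -c - d) = c + d - b from fun a b c d => by ring,
        ← Finset.sum_add_distrib, ← Finset.sum_sub_distrib]
      refine Finset.sum_eq_zero fun a ha => ?_
      rw [if_neg (hnone a ha)]
      split_ifs <;> ring
    have htot : ∑ β, A β l₀ = 1 := by
      have h : (p : ℤ) * ((∑ β, A β l₀ : ℕ) : ℤ) = (p : ℤ) * 1 := by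
        rw [Nat.cast_sum, Finset.mul_sum, Finset.sum_congr rfl fun β _ => hf β l₀,
          Finset.sum_add_distrib, ← Finset.mul_sum, Finset.sum_comm, ← Nat.cast_sum, hDs,
          Finset.sum_congr (s₁ := ι) rfl (g := fun a => -((O a).card : ℤ)) fun a ha => by
            rw [← Finset.sum_mul, ← Nat.cast_sum, hqs a ha, if_neg (hnone a ha)]; simp,
          Finset.sum_neg_distrib, ← Nat.cast_sum, hr, hr2]
        have : ((p - 2 : ℕ) : ℤ) = (p : ℤ) - 2 := by omega
        push_cast; rw [this]; ring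
      have hone := mul_left_cancel₀ (show (p : ℤ) ≠ 0 by exact_mod_cast hp.ne_zero) h
      exact_mod_cast hone
    obtain ⟨β₀, hβ₀⟩ : ∃ β₀, A β₀ l₀ ≠ 0 := by
      by_contra! h
      simp [h] at htot
    have hzero : ∀ β, β ≠ β₀ → D β = 0 := fun β hβ => by
      have h0 : A β l₀ = 0 := by
        have h1 := Finset.sum_le_sum_of_subset (f := fun β => A β l₀) (Finset.subset_univ {β, β₀})
        simp only [Finset.sum_pair hβ, htot] at h1
        omega
      have hq0 : ∀ a ∈ ι, (q β a : ℤ) * ((O a).card : ℤ) = 0 := fun a ha => by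
        rcases (O a).eq_empty_or_nonempty with he | ⟨l, hl⟩
        · simp [he]
        have h1 := hsub β l
        rw [h0] at h1
        have h2 := Finset.single_le_sum (f := fun a => (q β a : ℤ) * (if l ∈ O a then 1 else 0))
          (fun i _ => by positivity) ha
        simp only [if_pos hl, mul_one] at h2
        have h3 : (0 : ℤ) ≤ A β l := Int.natCast_nonneg _
        have h4 : (0 : ℤ) ≤ q β a := Int.natCast_nonneg _
        have : (q β a : ℤ) = 0 := by push_cast at h1; linarith
        rw [this, zero_mul]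
      have h1 := hf β l₀
      rw [h0, Finset.sum_eq_zero fun a ha => by
        rw [if_neg (hnone a ha), zero_sub, mul_neg, hq0 a ha, neg_zero]] at h1
      simpa using h1.symm
    have hcl : IsClassFunction H
        (fun h : H => (χ : G → ℂ) ((h : Subgroup.centralizer (P : Set G)) : G)) := fun x g => by
      congr 1
      rw [hHc, inv_mul_cancel_left] at *
    have h := congrFun (classFun_eq_sum hcl) ⟨_, Subgroup.mem_zpowers _⟩
    simp only [Finset.sum_apply, Pi.smul_apply, smul_eq_mul, ← hD] at h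
    rw [Finset.sum_eq_single β₀ (fun β _ hβ => by rw [hzero β hβ, Nat.cast_zero, zero_mul])
      (fun hn => absurd (mem_univ _) hn)] at h
    rw [h, norm_mul, norm_irr_comm hHc, mul_one, Complex.norm_natCast]
    rw [Finset.sum_eq_single β₀ (fun β _ hβ => hzero β hβ)
      (fun hn => absurd (mem_univ _) hn)] at hDs
    rw [hDs]
  -- the normalizer
  obtain ⟨N, hN⟩ : ∃ N : Subgroup G, N = Subgroup.normalizer (P : Set G) := ⟨_, rfl⟩
  let α : ∀ g ∈ Subgroup.normalizer (P : Set G), MulAut P := fun g hg => P.normalizerMonoidHom ⟨g, hg⟩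
  have hα : ∀ g hg (v : P), ((α g hg v : P) : G) = g * v * g⁻¹ := fun g hg v => rfl
  have hαcomm : ∀ g hg (v : P), α g hg v = v → v ≠ 1 → g ∈ Subgroup.centralizer (P : Set G) :=
    fun g hg v hv hv1 => free_of_prime hcard v.2 (fun h => hv1 (Subtype.ext h))
      (by rw [← hα g hg v, hv])
  have hinner : ∀ l : IrrCharacter P, (∑ v ∈ univ.erase (1 : P), (∑ o ∈ U, (o : P → ℂ) v) * conj ((l : P → ℂ) v)) =
      (if l ∈ U then (p : ℂ) else 0) - 2 := fun l => by
    rw [Finset.sum_congr rfl fun v _ => Finset.sum_mul _ _ _, Finset.sum_comm,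
      Finset.sum_congr (s₁ := U) rfl (g := fun o => (if o = l then (p : ℂ) else 0) - 1) fun o _ => ?_,
      Finset.sum_sub_distrib, Finset.sum_ite_eq', Finset.sum_const, hUcard]
    · simp
    have h := inner_irr o l
    rw [inner_def, inv_mul_eq_iff_eq_mul₀ (card_ne_zero P), hcard,
      ← Finset.add_sum_erase _ _ (mem_univ (1 : P)), irr_one_of_comm hA, irr_one_of_comm hA,
      map_one, mul_one] at h
    split_ifs at h ⊢ <;> linear_combination h
  have hperm : ∀ g hg (l : IrrCharacter P), l ∈ U → pullIrr (α g hg) l ∈ U := by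
    intro g hg l hl
    by_contra hno
    have hne : ∀ v : P, v ≠ 1 → α g hg v ≠ 1 := fun v hv h => hv (by
      have := congrArg (α g hg).symm h; simpa using this)
    have h1 := hinner (pullIrr (α g hg) l)
    rw [Finset.sum_equiv (α g hg).toEquiv (t := univ.erase (1 : P))
      (g := fun v => (∑ o ∈ U, (o : P → ℂ) v) * conj ((l : P → ℂ) v)) (fun v => by simp)
      fun v hv => ?_, hinner l, if_pos hl, if_neg hno] at h1
    · exact hp.ne_zero (by exact_mod_cast (show (p : ℂ) = 0 by linear_combination h1))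
    have hv1 := Finset.ne_of_mem_erase hv
    rw [pullIrr_apply]
    congr 1
    show _ = ∑ o ∈ U, (o : P → ℂ) (α g hg v)
    have e1 := hvalU v hv1
    have e2 := hvalU (α g hg v) (hne v hv1)
    rw [hα, show (χ : G → ℂ) (g * v * g⁻¹) = (χ : G → ℂ) v from isClassFunction_irr χ (v : G) g] at e2
    rw [e1] at e2
    exact neg_inj.1 e2
  have hfne : (Subgroup.centralizer (P : Set G)).relIndex (Subgroup.normalizer (P : Set G)) ≠ 1 :=
    fun h => by rw [h, hr2] at hrf; exact absurd (Nat.le_of_dvd one_pos hrf) (by omega)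
  obtain ⟨n, hnN, hnC⟩ : ∃ n ∈ Subgroup.normalizer (P : Set G),
      n ∉ Subgroup.centralizer (P : Set G) := by
    by_contra! h
    exact hfne (Subgroup.relIndex_eq_one.2 h)
  have hprin : principal P ∉ U := by
    intro hpU
    obtain ⟨l, hl, hlp⟩ := Finset.exists_mem_ne (show 1 < U.card by omega) (principal P)
    have hpair' : U = {principal P, l} := (Finset.eq_of_subset_of_card_le
      (by simp [Finset.insert_subset_iff, hpU, hl]) (by rw [hUcard, Finset.card_pair hlp.symm])).symm
    have h1 := hperm n hnN l hl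
    rw [hpair', Finset.mem_insert, Finset.mem_singleton] at h1
    rcases h1 with h1 | h1
    · refine hlp (Subtype.ext (funext fun v => ?_))
      have := congrFun (congrArg Subtype.val h1) ((α n hnN).symm v)
      simpa [pullIrr_apply, principal_apply] using this
    · refine hnC (hαcomm n hnN u₀ ?_ hu₀)
      exact irr_injective_of_prime hcard hlp (congrFun (congrArg Subtype.val h1) u₀)
  have hinv : ∀ g hg, g ∉ Subgroup.centralizer (P : Set G) → ∀ v : P, α g hg v = v⁻¹ := by
    intro g hg hgC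
    obtain ⟨l, hl, l', hl', hne⟩ := Finset.one_lt_card.1 (show 1 < U.card by omega)
    have hUeq : ∀ k ∈ U, k = l ∨ k = l' := fun k hk => by
      have h := Finset.eq_of_subset_of_card_le (s := {l, l'}) (t := U)
        (by simp [Finset.insert_subset_iff, hl, hl']) (by rw [hUcard, Finset.card_pair hne])
      rw [← h] at hk; simpa using hk
    have hlne : l ≠ principal P := fun h => hprin (h ▸ hl)
    have hl'ne : l' ≠ principal P := fun h => hprin (h ▸ hl')
    have hswap : ∀ k ∈ U, pullIrr (α g hg) k ≠ k := fun k hk h =>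
      hgC (hαcomm g hg u₀ (irr_injective_of_prime hcard (fun h' => hprin (h' ▸ hk))
        (congrFun (congrArg Subtype.val h) u₀)) hu₀)
    have e1 : pullIrr (α g hg) l = l' :=
      (hUeq _ (hperm g hg l hl)).resolve_left (hswap l hl)
    have e2 : pullIrr (α g hg) l' = l :=
      (hUeq _ (hperm g hg l' hl')).resolve_right (hswap l' hl')
    intro v
    have hsq : ∀ w : P, α g hg (α g hg w) = w := fun w => by
      refine irr_injective_of_prime hcard hlne ?_
      rw [← pullIrr_apply (α g hg) l, e1, ← pullIrr_apply (α g hg) l', e2]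
    have hw : α g hg (v * α g hg v) = v * α g hg v := by rw [map_mul, hsq, hA]
    by_cases h1 : v * α g hg v = 1
    · exact eq_inv_of_mul_eq_one_right h1
    · exact absurd (hαcomm g hg _ hw h1) hgC
  have hnval : ∀ v : P, α n hnN v = v⁻¹ := hinv n hnN hnC
  obtain ⟨l, hl⟩ : U.Nonempty := Finset.card_pos.1 (by omega)
  have hlne : l ≠ principal P := fun h => hprin (h ▸ hl)
  have hl2 : pullIrr (α n hnN) l ≠ l := fun h => hnC (hαcomm n hnN u₀
    (irr_injective_of_prime hcard hlne (congrFun (congrArg Subtype.val h) u₀)) hu₀)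
  have hU2 : ({l, pullIrr (α n hnN) l} : Finset (IrrCharacter P)) = U :=
    Finset.eq_of_subset_of_card_le
      (by simp [Finset.insert_subset_iff, hl, hperm n hnN l hl])
      (by rw [hUcard, Finset.card_pair hl2.symm])
  refine ⟨l, hlne, fun v hv => ?_, hreg, ⟨n, hnN, fun v hv => ?_⟩, fun g hg => ?_⟩
  · rw [hvalU v hv, ← hU2, Finset.sum_pair hl2.symm, pullIrr_apply, hnval, irr_inv]
  · exact congrArg Subtype.val (hnval ⟨v, hv⟩)
  · by_cases hgC : g ∈ Subgroup.centralizer (P : Set G)
    · exact Or.inl hgC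
    · exact Or.inr fun v hv => congrArg Subtype.val (hinv g hg hgC ⟨v, hv⟩)

/-- A character of degree prime to `p` lies in a block with a Sylow defect group. -/
theorem exists_pair_sylow {G : Type u} [Group G] [Fintype G] {M : Ideal AlgInt} [M.IsPrime]
    {p : ℕ} [Fact p.Prime] (hpM : (p : AlgInt) ∈ M) (hfac : (Nat.card G).factorization p = 1)
    (χ : IrrCharacter G) (hχ : ¬ p ∣ charDegree (χ : G → ℂ)) :
    ∃ (D : Subgroup G) (B : Set (IrrCharacter G))
      (b : Set (IrrCharacter (Subgroup.centralizer (D : Set G)))),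
      Nat.card D = p ∧ χ ∈ B ∧ IsBrauerPairOf p M B D b := by
  have hB : IsPBlock M (blockOf M (χ : G → ℂ)) := isPBlock_blockOf χ
  obtain ⟨D, hD⟩ := exists_isDefectGroup (p := p) hB
  obtain ⟨b, hb⟩ := exists_pair_on_defectGroup hpM hB hD
  refine ⟨D, _, b, ?_, mem_blockOf_self χ, hb⟩
  rw [card_defectGroup hpM hB hD, blockDefect, hfac,
    show sInf ((fun ψ : IrrCharacter G => (charDegree (ψ : G → ℂ)).factorization p) ''
      blockOf M (χ : G → ℂ)) = 0 from Nat.le_zero.1 (Nat.sInf_le
        ⟨χ, mem_blockOf_self χ, Nat.factorization_eq_zero_of_not_dvd hχ⟩), pow_one]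

end CfsgLib.PSubTwo
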