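import Cfsg.Agent.Lib.PSubTwo.Setup

/-!
# Sums over the elements of order divisible by `p`
-/

set_option autoImplicit false
set_option linter.unusedSectionVars false
set_option linter.unusedVariables false
set_option linter.style.haveILetI false

namespace CfsgLib.PSubTwo

open Cfsg Chars Finset
open scoped ComplexConjugate

universe u

variable {G : Type u} [Group G] [Fintype G] {p : ℕ} [Fact p.Prime]
  {P : Sylow p G} {ζ : IrrCharacter G} {x : G} {e : AddChar (ZMod p) ℂ}

theorem Shape.pow_congr (H : Shape P ζ x e) {a b : ℕ} (h : (a : ZMod p) = b) : x ^ a = x ^ b := by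
  rw [pow_eq_pow_iff_modEq, H.order]
  exact (ZMod.natCast_eq_natCast_iff a b p).1 h

theorem Shape.val_pow (H : Shape P ζ x e) (i : ZMod p) (k : ℕ) :
    (x ^ i.val) ^ k = x ^ (i * k).val := by
  haveI : NeZero p := ⟨(Fact.out : p.Prime).ne_zero⟩
  rw [← pow_mul]
  exact H.pow_congr (by push_cast; simp)

theorem Shape.val_add (H : Shape P ζ x e) (i j : ZMod p) :
    x ^ i.val * x ^ j.val = x ^ (i + j).val := by
  haveI : NeZero p := ⟨(Fact.out : p.Prime).ne_zero⟩
  rw [← pow_add]
  exact H.pow_congr (by push_cast; simp)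

theorem Shape.zpowers_eq (H : Shape P ζ x e) (S : Setup P ζ) :
    Subgroup.zpowers x = (P : Subgroup G) := by
  refine Subgroup.eq_of_le_of_card_ge (Subgroup.zpowers_le.2 H.mem) ?_
  rw [Nat.card_zpowers, H.order, S.card_P]

theorem Shape.exists_val (H : Shape P ζ x e) (S : Setup P ζ) {y : G} (hy : y ∈ (P : Subgroup G)) :
    ∃ i : ZMod p, y = x ^ i.val := by
  haveI : NeZero p := ⟨(Fact.out : p.Prime).ne_zero⟩
  rw [← H.zpowers_eq S] at hy
  obtain ⟨n, rfl⟩ := (isOfFinOrder_of_finite x).mem_powers_iff_mem_zpowers.2 hy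
  exact ⟨n, H.pow_congr (by simp)⟩

theorem Setup.not_dvd_center (S : Setup P ζ) : ¬ p ∣ Nat.card (Subgroup.center G) := by
  intro h
  obtain ⟨⟨c, hc⟩, hoc⟩ := exists_prime_orderOf_dvd_card' p h
  rw [Subgroup.orderOf_mk] at hoc
  obtain ⟨Q, hQ⟩ := (IsPGroup.of_card (n := 1) (show Nat.card (Subgroup.zpowers c) = p ^ 1 by
    rw [Nat.card_zpowers, hoc, pow_one])).exists_le_sylow
  have hPn : (Subgroup.zpowers c).Normal := ⟨fun a ha g => by
    rw [Subgroup.mem_center_iff.1 ((Subgroup.zpowers_le.2 hc) ha) g, mul_inv_cancel_right]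
    exact ha⟩
  obtain ⟨g, hg⟩ := MulAction.exists_smul_eq G Q P
  have hQ1 : Subgroup.zpowers c = (Q : Subgroup G) := Subgroup.eq_of_le_of_card_ge hQ (by
    rw [Sylow.card_eq_multiplicity Q, ← P.card_eq_multiplicity, S.card_P, Nat.card_zpowers, hoc])
  apply S.not_normal
  haveI : (Q : Subgroup G).Normal := hQ1 ▸ hPn
  rw [show P = Q from hg ▸ Sylow.smul_eq_of_normal]
  infer_instance

theorem Setup.not_dvd_orderOf_center (S : Setup P ζ) {c : G} (hc : c ∈ Subgroup.center G) :
    ¬ p ∣ orderOf c := fun h =>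
  S.not_dvd_center (h.trans (Subgroup.orderOf_dvd_natCard _ hc))

theorem Shape.mul_inj (H : Shape P ζ x e) (S : Setup P ζ) {i j : ZMod p} {c d : G}
    (hc : c ∈ Subgroup.center G) (hd : d ∈ Subgroup.center G)
    (h : x ^ i.val * c = x ^ j.val * d) : i = j ∧ c = d := by
  have hz : (x ^ j.val)⁻¹ * x ^ i.val = d * c⁻¹ := by
    rw [eq_mul_inv_iff_mul_eq, mul_assoc, h, inv_mul_cancel_left]
  have hij : x ^ i.val = x ^ j.val := by
    by_contra hne
    refine S.not_central (mul_mem (inv_mem (pow_mem H.mem _)) (pow_mem H.mem i.val))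
      (fun h1 => hne (inv_mul_eq_one.1 h1).symm) ?_
    rw [hz]; exact mul_mem hd (inv_mem hc)
  refine ⟨?_, mul_left_cancel (hij ▸ h)⟩
  haveI : NeZero p := ⟨(Fact.out : p.Prime).ne_zero⟩
  rw [pow_eq_pow_iff_modEq, H.order] at hij
  have := (ZMod.natCast_eq_natCast_iff _ _ p).2 hij
  simpa using this

theorem Shape.commute_center (H : Shape P ζ x e) {c : G} (hc : c ∈ Subgroup.center G) :
    Commute x c := Subgroup.mem_center_iff.1 hc x

theorem Shape.dvd_orderOf (H : Shape P ζ x e) (S : Setup P ζ) {i : ZMod p} (hi : i ≠ 0) {c : G}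
    (hc : c ∈ Subgroup.center G) : p ∣ orderOf (x ^ i.val * c) := by
  have hp : p.Prime := Fact.out
  haveI : NeZero p := ⟨hp.ne_zero⟩
  have ho : orderOf (x ^ i.val) = p := by
    refine orderOf_eq_prime ?_ fun h => ?_
    · rw [← pow_mul]
      refine orderOf_dvd_iff_pow_eq_one.1 ?_
      rw [H.order]; exact dvd_mul_left p _
    · rw [← pow_zero x] at h
      have := h
      rw [pow_eq_pow_iff_modEq, H.order] at this
      exact hi (by simpa using (ZMod.natCast_eq_natCast_iff i.val 0 p).2 this)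
  rw [(H.commute_center hc).pow_left i.val |>.orderOf_mul_eq_mul_orderOf_of_coprime, ho]
  · exact dvd_mul_right p _
  · rw [ho, hp.coprime_iff_not_dvd]; exact S.not_dvd_orderOf_center hc

theorem Shape.exists_eq_mul (H : Shape P ζ x e) (S : Setup P ζ) {y : G}
    (hy : y ∈ Subgroup.centralizer ((P : Subgroup G) : Set G)) :
    ∃ (i : ZMod p) (c : G), c ∈ Subgroup.center G ∧ y = x ^ i.val * c := by
  have hp : p.Prime := Fact.out
  haveI : NeZero p := ⟨hp.ne_zero⟩
  by_cases hd : p ∣ orderOf y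
  · obtain ⟨m, hm⟩ := hd
    have hm0 : m ≠ 0 := fun h => (orderOf_pos y).ne' (by rw [hm, h, mul_zero])
    have hpm : ¬ p ∣ m := fun ⟨r, hr⟩ => S.not_sq
      (dvd_trans ⟨r, by rw [hm, hr]; ring⟩ (orderOf_dvd_natCard y))
    have ho1 : orderOf (y ^ m) = p := by
      rw [orderOf_pow_of_dvd hm0 ⟨p, by rw [hm, mul_comm]⟩, hm, Nat.mul_div_cancel _ (by omega)]
    have hp1 : y ^ m ∈ (P : Subgroup G) := by
      have hle : Subgroup.zpowers (y ^ m) ≤ Subgroup.normalizer ((P : Subgroup G) : Set G) :=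
        Subgroup.zpowers_le.2 (pow_mem (Subgroup.centralizer_le_normalizer _ hy) m)
      have hpg : IsPGroup p (Subgroup.zpowers (y ^ m)) :=
        IsPGroup.of_card (n := 1) (by rw [Nat.card_zpowers, ho1, pow_one])
      have := P.is_maximal' (hpg.to_sup_of_normal_right' P.isPGroup' hle) le_sup_right
      rw [← this]
      exact Subgroup.mem_sup_left (Subgroup.mem_zpowers _)
    have hp2 : y ^ p ∈ Subgroup.center G := by
      refine H.cent _ (pow_mem hy p) ?_
      rwa [orderOf_pow_of_dvd hp.ne_zero ⟨m, hm⟩, hm, Nat.mul_div_cancel_left _ hp.pos]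
    have hb : (1 : ℤ) = (p : ℤ) * p.gcdA m + (m : ℤ) * p.gcdB m := by
      rw [← Nat.gcd_eq_gcd_ab, (hp.coprime_iff_not_dvd.2 hpm).gcd_eq_one, Nat.cast_one]
    obtain ⟨i, hi⟩ := H.exists_val S (zpow_mem hp1 (p.gcdB m))
    refine ⟨i, _, zpow_mem hp2 (p.gcdA m), ?_⟩
    rw [← hi, ← zpow_natCast, ← zpow_natCast, ← zpow_mul, ← zpow_mul, ← zpow_add, add_comm, ← hb,
      zpow_one]
  · exact ⟨0, y, H.cent y hy hd, by simp⟩

theorem Shape.mem_centralizer_iff (H : Shape P ζ x e) (S : Setup P ζ) {g : G} :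
    g ∈ Subgroup.centralizer ((P : Subgroup G) : Set G) ↔ Commute g x := by
  refine ⟨fun h => (Subgroup.mem_centralizer_iff.1 h x H.mem).symm, fun h => ?_⟩
  rw [Subgroup.mem_centralizer_iff]
  intro y hy
  obtain ⟨i, rfl⟩ := H.exists_val S hy
  exact ((h.pow_right i.val).eq).symm

theorem Shape.mul_mem_centralizer (H : Shape P ζ x e) (S : Setup P ζ) (i : ZMod p) {c : G}
    (hc : c ∈ Subgroup.center G) :
    x ^ i.val * c ∈ Subgroup.centralizer ((P : Subgroup G) : Set G) :=
  mul_mem ((H.mem_centralizer_iff S).2 ((Commute.refl x).pow_left _))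
    (Subgroup.center_le_centralizer _ hc)

theorem Shape.not_centralizes (H : Shape P ζ x e) (S : Setup P ζ) {n : G}
    (hn : n * x * n⁻¹ = x⁻¹) : n ∉ Subgroup.centralizer ((P : Subgroup G) : Set G) := by
  intro h
  rw [H.mem_centralizer_iff S] at h
  rw [h.eq, mul_inv_cancel_right, eq_inv_iff_mul_eq_one, ← pow_two] at hn
  have h2 := orderOf_dvd_of_pow_eq_one hn
  rw [H.order] at h2
  have := Nat.le_of_dvd two_pos h2
  have := S.five_lt
  omega

theorem Shape.card_normalizer (H : Shape P ζ x e) (S : Setup P ζ) :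
    Nat.card (Subgroup.normalizer ((P : Subgroup G) : Set G)) =
      2 * p * Nat.card (Subgroup.center G) := by
  have hp : p.Prime := Fact.out
  haveI : NeZero p := ⟨hp.ne_zero⟩
  obtain ⟨n, hnN, hn⟩ := H.inv
  let f : Bool × ZMod p × Subgroup.center G → Subgroup.normalizer ((P : Subgroup G) : Set G) :=
    fun t => ⟨(if t.1 then n else 1) * (x ^ t.2.1.val * (t.2.2 : G)), mul_mem
      (by cases t.1; exacts [one_mem _, hnN]) (Subgroup.centralizer_le_normalizer _
        (H.mul_mem_centralizer S t.2.1 t.2.2.2))⟩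
  have hf : Function.Bijective f := by
    constructor
    · rintro ⟨a, i, c, hc⟩ ⟨b, j, d, hd⟩ h
      have h' := congrArg Subtype.val h
      simp only [f] at h'
      have hab : a = b := by
        have key : ∀ (i j : ZMod p) (c d : G), c ∈ Subgroup.center G → d ∈ Subgroup.center G →
            n * (x ^ i.val * c) ≠ x ^ j.val * d := fun i j c d hc hd hh =>
          H.not_centralizes S hn (by
            rw [show n = x ^ j.val * d * (x ^ i.val * c)⁻¹ by rw [← hh, mul_inv_cancel_right]]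
            exact mul_mem (H.mul_mem_centralizer S j hd) (inv_mem (H.mul_mem_centralizer S i hc)))
        cases a <;> cases b
        · rfl
        · exact absurd (by simpa using h'.symm) (key j i d c hd hc)
        · exact absurd (by simpa using h') (key i j c d hc hd)
        · rfl
      subst hab
      obtain ⟨rfl, rfl⟩ := H.mul_inj S hc hd (mul_left_cancel h')
      rfl
    · rintro ⟨g, hg⟩
      rcases H.norm g hg with hC | hI
      · obtain ⟨i, c, hc, rfl⟩ := H.exists_eq_mul S hC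
        exact ⟨(false, i, ⟨c, hc⟩), Subtype.ext (by simp [f])⟩
      · have hC : n⁻¹ * g ∈ Subgroup.centralizer ((P : Subgroup G) : Set G) := by
          rw [H.mem_centralizer_iff S]
          have h1 : g * x * g⁻¹ = n * x * n⁻¹ := hI.trans hn.symm
          show n⁻¹ * g * x = x * (n⁻¹ * g)
          calc n⁻¹ * g * x = n⁻¹ * (g * x * g⁻¹) * g := by group
            _ = _ := by rw [h1]; group
        obtain ⟨i, c, hc, h⟩ := H.exists_eq_mul S hC
        exact ⟨(true, i, ⟨c, hc⟩), Subtype.ext (by simp [f, ← h])⟩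
  rw [← Nat.card_congr (Equiv.ofBijective f hf), Nat.card_prod, Nat.card_prod,
    Nat.card_eq_fintype_card, Fintype.card_bool, Nat.card_zmod, mul_assoc]

open scoped Classical in
/-- **The singular sum.** -/
theorem Shape.sum_singular (H : Shape P ζ x e) (S : Setup P ζ) {F : G → ℂ}
    (hF : ∀ g h, F (h * g * h⁻¹) = F g) :
    ((2 * p * Nat.card (Subgroup.center G) : ℕ) : ℂ) *
        ∑ g ∈ univ.filter (fun g : G => p ∣ orderOf g), F g =
      (Nat.card G : ℂ) * ∑ a ∈ univ.erase (0 : ZMod p), ∑ c : Subgroup.center G,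
        F (x ^ a.val * c) := by
  have hp : p.Prime := Fact.out
  haveI : NeZero p := ⟨hp.ne_zero⟩
  let T : Finset (G × ZMod p × Subgroup.center G) := univ ×ˢ ((univ.erase 0) ×ˢ univ)
  let φ : G × ZMod p × Subgroup.center G → G := fun t => t.1 * (x ^ t.2.1.val * t.2.2) * t.1⁻¹
  have hsum : ∑ t ∈ T, F (φ t) = (Nat.card G : ℂ) * ∑ a ∈ univ.erase (0 : ZMod p),
      ∑ c : Subgroup.center G, F (x ^ a.val * c) := by
    simp only [T, φ, Finset.sum_product, hF, Finset.sum_const, Finset.card_univ, nsmul_eq_mul,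
      Nat.card_eq_fintype_card]
  rw [← hsum, ← Finset.sum_fiberwise_of_maps_to (g := φ)
    (t := univ.filter (fun g : G => p ∣ orderOf g)), Finset.mul_sum]
  swap
  · rintro ⟨h, a, c⟩ ht
    simp only [T, mem_product, mem_univ, true_and, and_true, mem_erase, ne_eq] at ht
    refine mem_filter.2 ⟨mem_univ _, ?_⟩
    show p ∣ orderOf (h * (x ^ a.val * (c : G)) * h⁻¹)
    rw [← MulAut.conj_apply, MulEquiv.orderOf_eq]
    exact H.dvd_orderOf S ht c.2
  refine Finset.sum_congr rfl fun g hg => ?_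
  rw [Finset.sum_congr (s₁ := T.filter fun t => φ t = g) rfl
    (g := fun _ => F g) (fun t ht => by rw [(mem_filter.1 ht).2]),
    Finset.sum_const, nsmul_eq_mul]
  congr 2
  -- a conjugate of `g` centralises `x`
  obtain ⟨-, hgp⟩ := mem_filter.1 hg
  obtain ⟨h₀, a₀, c₀, ha₀, rfl⟩ : ∃ (h₀ : G) (a₀ : ZMod p) (c₀ : Subgroup.center G),
      a₀ ≠ 0 ∧ g = h₀ * (x ^ a₀.val * (c₀ : G)) * h₀⁻¹ := by
    obtain ⟨m, hm⟩ := hgp
    have hm0 : m ≠ 0 := fun h => (orderOf_pos g).ne' (by rw [hm, h, mul_zero])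
    have ho1 : orderOf (g ^ m) = p := by
      rw [orderOf_pow_of_dvd hm0 ⟨p, by rw [hm, mul_comm]⟩, hm, Nat.mul_div_cancel _ (by omega)]
    obtain ⟨Q, hQ⟩ := (IsPGroup.of_card (n := 1) (show Nat.card (Subgroup.zpowers (g ^ m)) = p ^ 1
      by rw [Nat.card_zpowers, ho1, pow_one])).exists_le_sylow
    obtain ⟨h, hh⟩ := MulAction.exists_smul_eq G Q P
    have hmem : h * g ^ m * h⁻¹ ∈ (P : Subgroup G) := by
      rw [← hh, Sylow.coe_subgroup_smul]
      exact Subgroup.smul_mem_pointwise_smul _ (MulAut.conj h) _ (hQ (Subgroup.mem_zpowers _))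
    have hne : h * g ^ m * h⁻¹ ≠ 1 := fun h1 => hp.ne_one (by
      rw [← ho1, conj_eq_one_iff.1 h1, orderOf_one])
    have hcomm : h * g * h⁻¹ ∈ Subgroup.centralizer ((P : Subgroup G) : Set G) := by
      rw [← Blocks.zpowers_eq_of_prime S.card_P hmem hne, Subgroup.mem_centralizer_iff]
      rintro _ ⟨j, rfl⟩
      rw [← conj_pow]
      exact ((((Commute.refl (h * g * h⁻¹)).pow_right m).zpow_right j).eq).symm
    obtain ⟨i, c, hc, hic⟩ := H.exists_eq_mul S hcomm
    refine ⟨h⁻¹, i, ⟨c, hc⟩, fun hi => ?_, by rw [← hic]; group⟩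
    subst hi
    rw [ZMod.val_zero, pow_zero, one_mul] at hic
    refine S.not_dvd_orderOf_center hc ?_
    rw [← hic, ← MulAut.conj_apply, MulEquiv.orderOf_eq, hm]
    exact dvd_mul_right p m
  rw [← H.card_normalizer S, Nat.card_eq_fintype_card, ← Finset.card_univ]
  obtain ⟨n, hnN, hn⟩ := H.inv
  -- the exponent of an element of the normalizer
  have hN : ∀ k : Subgroup.normalizer ((P : Subgroup G) : Set G), ∃ a : ZMod p, a ≠ 0 ∧
      (k : G) * x ^ a.val * (k : G)⁻¹ = x ^ a₀.val := by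
    rintro ⟨k, hk⟩
    rcases H.norm k hk with hC | hI
    · refine ⟨a₀, ha₀, ?_⟩
      rw [(((H.mem_centralizer_iff S).1 hC).pow_right a₀.val).eq, mul_inv_cancel_right]
    · refine ⟨-a₀, neg_ne_zero.2 ha₀, ?_⟩
      rw [← conj_pow, hI, inv_pow, inv_eq_iff_mul_eq_one, H.val_add, neg_add_cancel,
        ZMod.val_zero, pow_zero]
  choose α hα0 hα using hN
  refine Finset.card_bij
    (fun (k : Subgroup.normalizer ((P : Subgroup G) : Set G)) _ => (h₀ * (k : G), α k, c₀))
    (fun k _ => ?_) ?_ ?_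
  · refine mem_filter.2 ⟨by simp [T, hα0 k], ?_⟩
    show h₀ * (k : G) * (x ^ (α k).val * (c₀ : G)) * (h₀ * (k : G))⁻¹ = _
    rw [← hα k, mul_inv_rev]
    have hc := (Subgroup.mem_center_iff.1 c₀.2 (k : G)⁻¹)
    simp only [mul_assoc]
    rw [← mul_assoc ((c₀ : G)) (k : G)⁻¹, ← hc]
    simp only [mul_assoc]
  · intro k _ k' _ h
    exact Subtype.ext (mul_left_cancel (congrArg Prod.fst h))
  · rintro ⟨k, a, c⟩ ht
    obtain ⟨htT, hk⟩ := mem_filter.1 ht
    simp only [T, mem_product, mem_univ, true_and, and_true, mem_erase, ne_eq] at htT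
    have h1 : h₀⁻¹ * k * (x ^ a.val * (c : G)) * (h₀⁻¹ * k)⁻¹ = x ^ a₀.val * (c₀ : G) := by
      have : h₀⁻¹ * (k * (x ^ a.val * (c : G)) * k⁻¹) * h₀ = x ^ a₀.val * (c₀ : G) := by
        rw [show k * (x ^ a.val * (c : G)) * k⁻¹ = _ from hk]; group
      rw [← this]; group
    set q := h₀⁻¹ * k with hq
    -- separate the two parts
    obtain ⟨u, hu1, hu0⟩ := Nat.chineseRemainder
      (hp.coprime_iff_not_dvd.2 S.not_dvd_center) 1 0
    have hpowx : ∀ i : ZMod p, (x ^ i.val) ^ u = x ^ i.val := fun i => by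
      rw [H.val_pow, show ((u : ℕ) : ZMod p) = ((1 : ℕ) : ZMod p) from
        (ZMod.natCast_eq_natCast_iff _ _ p).2 hu1, Nat.cast_one, mul_one]
    have hpowc : ∀ d : Subgroup.center G, (d : G) ^ u = 1 := fun d => by
      have := orderOf_dvd_iff_pow_eq_one.1 ((orderOf_dvd_natCard d).trans
        (Nat.modEq_zero_iff_dvd.1 hu0))
      exact congrArg Subtype.val this
    have h2 : q * x ^ a.val * q⁻¹ = x ^ a₀.val := by
      have := congrArg (· ^ u) h1
      simp only [conj_pow] at this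
      rwa [((H.commute_center c.2).pow_left _).mul_pow,
        ((H.commute_center c₀.2).pow_left _).mul_pow, hpowx, hpowx, hpowc, hpowc, mul_one,
        mul_one] at this
    have h3 : c = c₀ := by
      have hh : q * (x ^ a.val * (c : G)) * q⁻¹ = q * x ^ a.val * q⁻¹ * (c : G) := by
        have hc := (Subgroup.mem_center_iff.1 c.2 q⁻¹)
        simp only [mul_assoc]
        rw [hc]
      rw [hh, h2] at h1
      exact Subtype.ext (mul_left_cancel h1)
    have hqN : q ∈ Subgroup.normalizer ((P : Subgroup G) : Set G) := by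
      have hmemP : x ^ a.val ∈ (P : Subgroup G) := pow_mem H.mem _
      have hne : x ^ a.val ≠ 1 := fun h => ha₀ (by
        have h4 : x ^ a₀.val * 1 = x ^ (0 : ZMod p).val * 1 := by
          rw [mul_one, mul_one, ZMod.val_zero, pow_zero, ← h2, h, mul_one, mul_inv_cancel]
        exact (H.mul_inj S (one_mem _) (one_mem _) h4).1)
      rw [Subgroup.mem_normalizer_iff]
      have key : (P : Subgroup G).map (MulAut.conj q).toMonoidHom = (P : Subgroup G) := by
        refine Subgroup.eq_of_le_of_card_ge ?_ (le_of_eq ?_)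
        · rw [← Blocks.zpowers_eq_of_prime S.card_P hmemP hne, MonoidHom.map_zpowers,
            Subgroup.zpowers_le, MulEquiv.coe_toMonoidHom, MulAut.conj_apply, h2]
          rw [Blocks.zpowers_eq_of_prime S.card_P hmemP hne]
          exact pow_mem H.mem _
        · exact (Nat.card_congr ((P : Subgroup G).equivMapOfInjective _
            (MulAut.conj q).injective).toEquiv)
      intro z
      constructor
      · intro hz
        rw [← key]
        exact ⟨z, hz, rfl⟩
      · intro hz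
        rw [← key] at hz
        obtain ⟨w, hw, he⟩ := hz
        rwa [← (MulAut.conj q).injective he]
    refine ⟨⟨q, hqN⟩, mem_univ _, Prod.ext (by simp [hq]) (Prod.ext ?_ h3.symm)⟩
    show α ⟨q, hqN⟩ = a
    have h5 := (hα ⟨q, hqN⟩).trans h2.symm
    exact (H.mul_inj S (one_mem _) (one_mem _) (by
      simpa using mul_left_cancel (mul_right_cancel h5))).1

end CfsgLib.PSubTwo
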